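import Mathlib.RingTheory.Flat.Equalizer
import Mathlib.RingTheory.Flat.Localization
import Mathlib.LinearAlgebra.TensorProduct.RightExactness
import Mathlib.RingTheory.Spectrum.Prime.Topology
import Mathlib.RingTheory.Spectrum.Maximal.Basic
import Mathlib.RingTheory.Localization.AtPrime.Basic

universe u v w
open TensorProduct

namespace Groth.Agent.FlatNil62

variable {A : Type u} [CommRing A]

theorem eq_top_of_sup_smul_eq_top {M : Type*} [AddCommGroup M] [Module A M] {J : Ideal A}
    (hJ : IsNilpotent J) {N : Submodule A M} (h : N ⊔ J • ⊤ = ⊤) : N = ⊤ := by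
  have hn : ∀ n : ℕ, N ⊔ J ^ n • (⊤ : Submodule A M) = ⊤ := by
    intro n
    induction n with
    | zero => simp
    | succ n ih =>
      apply top_le_iff.mp
      calc (⊤ : Submodule A M) = N ⊔ J • (N ⊔ J ^ n • ⊤) := by rw [ih, h]
        _ ≤ N ⊔ (J • N ⊔ J • (J ^ n • ⊤)) := by rw [Submodule.smul_sup]
        _ ≤ N ⊔ J ^ (n + 1) • ⊤ := by
          rw [← Submodule.mul_smul, ← pow_succ']
          exact sup_le le_sup_left (sup_le (Submodule.smul_le_right.trans le_sup_left) le_sup_right)
  obtain ⟨n, hn'⟩ := hJ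
  have := hn n
  rw [hn'] at this
  simpa using this

theorem eq_bot_of_le_smul_self {M : Type*} [AddCommGroup M] [Module A M] {J : Ideal A}
    (hJ : IsNilpotent J) {N : Submodule A M} (h : N ≤ J • N) : N = ⊥ := by
  have hn : ∀ n : ℕ, N ≤ J ^ n • N := by
    intro n
    induction n with
    | zero => simp
    | succ n ih =>
      refine h.trans ?_
      rw [pow_succ', Submodule.mul_smul]
      exact Submodule.smul_mono le_rfl ih
  obtain ⟨n, hn'⟩ := hJ
  have := hn n
  rw [hn'] at this
  simpa using this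

/-- `N = P ∩ J N` for a submodule with flat quotient. -/
theorem mem_smul_of_flat_range {N P : Type*} [AddCommGroup N] [Module A N] [AddCommGroup P] [Module A P]
    [Module.Flat A P] (f : N →ₗ[A] P) (hf : Function.Surjective f) (J : Ideal A) {k : N}
    (hk : k ∈ LinearMap.ker f) (hkJ : k ∈ J • (⊤ : Submodule A N)) : k ∈ J • LinearMap.ker f := by
  have hinj := LinearMap.lTensor_injective_of_exact_of_flat f hf (LinearMap.ker f).subtype
    (LinearMap.ker f).subtype_injective (LinearMap.exact_subtype_ker_map _) (A ⧸ J)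
  have h0 : ((1 : A ⧸ J) ⊗ₜ[A] k) = 0 := by
    apply (TensorProduct.quotTensorEquivQuotSMul N J).injective
    rw [map_zero, ← map_one (Ideal.Quotient.mk J), TensorProduct.quotTensorEquivQuotSMul_mk_tmul, one_smul,
      Submodule.Quotient.mk_eq_zero]
    exact hkJ
  have h1 : ((1 : A ⧸ J) ⊗ₜ[A] (⟨k, hk⟩ : LinearMap.ker f)) = 0 := hinj (by simpa using h0)
  have h2 := congrArg (TensorProduct.quotTensorEquivQuotSMul (LinearMap.ker f) J) h1
  rw [map_zero, ← map_one (Ideal.Quotient.mk J), TensorProduct.quotTensorEquivQuotSMul_mk_tmul, one_smul,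
    Submodule.Quotient.mk_eq_zero] at h2
  have := Submodule.mem_map_of_mem (f := (LinearMap.ker f).subtype) h2
  rw [Submodule.map_smul'', Submodule.map_subtype_top] at this
  exact this

variable {M : Type v} [AddCommGroup M] [Module A M] {ι : Type w}
variable (φ : (ι →₀ A) →ₗ[A] M) (A' : Type*) [CommRing A'] [Algebra A A']

theorem one_tmul_eq_zero_iff (k : ι →₀ A) :
    ((1 : A') ⊗ₜ[A] k) = 0 ↔ ∀ l, algebraMap A A' (k l) = 0 := by
  classical
  constructor
  · intro h l
    have := congrArg (fun z => TensorProduct.finsuppScalarRight A A' A' ι z l) h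
    simpa [TensorProduct.finsuppScalarRight_apply_tmul_apply, Algebra.smul_def] using this
  · intro h
    apply (TensorProduct.finsuppScalarRight A A' A' ι).injective
    ext l
    simp [TensorProduct.finsuppScalarRight_apply_tmul_apply, Algebra.smul_def, h l]

theorem baseChange_injective_iff (hφ : Function.Surjective φ) :
    Function.Injective (φ.baseChange A') ↔ ∀ k ∈ LinearMap.ker φ, ∀ l, algebraMap A A' (k l) = 0 := by
  constructor
  · intro h k hk
    refine (one_tmul_eq_zero_iff A' k).mp (h ?_)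
    rw [LinearMap.baseChange_tmul, LinearMap.mem_ker.mp hk, tmul_zero, map_zero]
  · intro h
    rw [← LinearMap.ker_eq_bot, eq_bot_iff]
    intro z hz
    have hz' : φ.lTensor A' z = 0 := by simpa [LinearMap.baseChange_eq_ltensor] using hz
    obtain ⟨w, rfl⟩ := ((lTensor_exact (R := A) (M := ↥(LinearMap.ker φ)) (N := ι →₀ A) (P := M) A' (f := (LinearMap.ker φ).subtype)
      (g := φ) (LinearMap.exact_subtype_ker_map φ) hφ) z).mp hz'
    rw [Submodule.mem_bot]
    clear hz hz'
    induction w using TensorProduct.induction_on with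
    | zero => simp
    | tmul a k =>
      rw [LinearMap.lTensor_tmul]
      have := (one_tmul_eq_zero_iff A' k.1).mpr (h k.1 k.2)
      have e : a ⊗ₜ[A] (k : ι →₀ A) = a • ((1 : A') ⊗ₜ[A] (k : ι →₀ A)) := by
        rw [TensorProduct.smul_tmul', smul_eq_mul, mul_one]
      show a ⊗ₜ[A] (k : ι →₀ A) = 0
      rw [e, this, smul_zero]
    | add x y hx hy => rw [map_add, hx, hy, add_zero]

theorem baseChange_surjective (hφ : Function.Surjective φ) :
    Function.Surjective (φ.baseChange A') := by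
  intro z
  obtain ⟨w, hw⟩ := LinearMap.lTensor_surjective A' hφ z
  exact ⟨w, by simpa [LinearMap.baseChange_eq_ltensor] using hw⟩

theorem injective_of_flat {J : Ideal A} (hJ : IsNilpotent J) (hφ : Function.Surjective φ)
    (hker : ∀ k ∈ LinearMap.ker φ, ∀ l, k l ∈ J) [Module.Flat A' (A' ⊗[A] M)] :
    Function.Injective (φ.baseChange A') := by
  classical
  have hJ' : IsNilpotent (J.map (algebraMap A A')) := by
    obtain ⟨n, hn⟩ := hJ
    exact ⟨n, by simp [← Ideal.map_pow, hn]⟩
  rw [← LinearMap.ker_eq_bot]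
  apply eq_bot_of_le_smul_self hJ'
  intro z hz
  apply mem_smul_of_flat_range (φ.baseChange A') (baseChange_surjective φ A' hφ) _ hz
  have hz' : φ.lTensor A' z = 0 := by simpa [LinearMap.baseChange_eq_ltensor] using hz
  obtain ⟨w, rfl⟩ := ((lTensor_exact (R := A) (M := ↥(LinearMap.ker φ)) (N := ι →₀ A) (P := M) A' (f := (LinearMap.ker φ).subtype)
      (g := φ) (LinearMap.exact_subtype_ker_map φ) hφ) z).mp hz'
  clear hz hz'
  induction w using TensorProduct.induction_on with
  | zero => simp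
  | tmul a k =>
    rw [LinearMap.lTensor_tmul]
    show a ⊗ₜ[A] (k.1 : ι →₀ A) ∈ _
    rw [← k.1.sum_single, Finsupp.sum, TensorProduct.tmul_sum]
    refine Submodule.sum_mem _ fun l _ => ?_
    have : a ⊗ₜ[A] Finsupp.single l (k.1 l) =
        algebraMap A A' (k.1 l) • (a ⊗ₜ[A] Finsupp.single l (1 : A)) := by
      rw [algebraMap_smul, ← TensorProduct.tmul_smul, Finsupp.smul_single', mul_one]
    rw [this]
    exact Submodule.smul_mem_smul (Ideal.mem_map_of_mem _ (hker k.1 k.2 l)) Submodule.mem_top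
  | add x y hx hy => rw [map_add]; exact add_mem hx hy

theorem exists_cover {J : Ideal A} (hJ : IsNilpotent J)
    (hfree : Module.Free (A ⧸ J) ((A ⧸ J) ⊗[A] M)) :
    ∃ (ι : Type (max u v)) (φ : (ι →₀ A) →ₗ[A] M), Function.Surjective φ ∧
      ∀ k ∈ LinearMap.ker φ, ∀ l, k l ∈ J := by
  classical
  let b := Module.Free.chooseBasis (A ⧸ J) ((A ⧸ J) ⊗[A] M)
  have hsurj : Function.Surjective (fun m : M => (1 : A ⧸ J) ⊗ₜ[A] m) := by
    intro z
    induction z using TensorProduct.induction_on with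
    | zero => exact ⟨0, tmul_zero _ _⟩
    | tmul a m =>
      obtain ⟨a, rfl⟩ := Ideal.Quotient.mk_surjective a
      refine ⟨a • m, ?_⟩
      show (1 : A ⧸ J) ⊗ₜ[A] (a • m) = _
      rw [← TensorProduct.smul_tmul, ← Ideal.Quotient.algebraMap_eq, Algebra.algebraMap_eq_smul_one]
    | add x y hx hy =>
      obtain ⟨m, hm⟩ := hx
      obtain ⟨n, hn⟩ := hy
      exact ⟨m + n, by simp only at hm hn ⊢; rw [tmul_add, hm, hn]⟩
  choose m hm using fun l => hsurj (b l)
  simp only at hm
  let φ := Finsupp.linearCombination A m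
  have heq : ∀ k, (1 : A ⧸ J) ⊗ₜ[A] φ k = b.repr.symm (k.mapRange (Ideal.Quotient.mk J) (map_zero _)) := by
    intro k
    induction k using Finsupp.induction_linear with
    | zero => simp
    | add x y hx hy => rw [map_add, tmul_add, hx, hy, Finsupp.mapRange_add (map_add _), map_add]
    | single l c =>
      simp only [φ, Finsupp.linearCombination_single, Finsupp.mapRange_single, Module.Basis.repr_symm_single,
        TensorProduct.tmul_smul, hm]
      rw [← Ideal.Quotient.algebraMap_eq, algebraMap_smul]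
  refine ⟨_, φ, ?_, ?_⟩
  · rw [← LinearMap.range_eq_top]
    apply eq_top_of_sup_smul_eq_top hJ
    rw [eq_top_iff]
    intro x _
    let c := b.repr ((1 : A ⧸ J) ⊗ₜ[A] x)
    obtain ⟨k, hk⟩ := Finsupp.mapRange_surjective _ (map_zero (Ideal.Quotient.mk J)) Ideal.Quotient.mk_surjective c
    have h1 : (1 : A ⧸ J) ⊗ₜ[A] (x - φ k) = 0 := by
      rw [tmul_sub, heq, hk, LinearEquiv.symm_apply_apply, sub_self]
    have h2 := congrArg (TensorProduct.quotTensorEquivQuotSMul M J) h1
    rw [map_zero, ← map_one (Ideal.Quotient.mk J), TensorProduct.quotTensorEquivQuotSMul_mk_tmul, one_smul,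
      Submodule.Quotient.mk_eq_zero] at h2
    exact Submodule.mem_sup.mpr ⟨φ k, LinearMap.mem_range_self _ _, x - φ k, h2, by abel⟩
  · intro k hk l
    have h := heq k
    rw [LinearMap.mem_ker.mp hk, tmul_zero] at h
    have h' := congrArg (fun z => b.repr z l) h
    simpa [Ideal.Quotient.eq_zero_iff_mem] using h'.symm

theorem exists_ideal (M : Type v) [AddCommGroup M] [Module A M] {J : Ideal A} (hJ : IsNilpotent J)
    (hfree : Module.Free (A ⧸ J) ((A ⧸ J) ⊗[A] M)) :
    ∃ R₀ : Ideal A, ∀ (A' : Type u) [CommRing A'] [Algebra A A'],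
      (Module.Free A' (A' ⊗[A] M) ↔ R₀.map (algebraMap A A') = ⊥) ∧
      (Module.Flat A' (A' ⊗[A] M) ↔ R₀.map (algebraMap A A') = ⊥) := by
  classical
  obtain ⟨ι, φ, hφ, hker⟩ := exists_cover hJ hfree
  refine ⟨Ideal.span {a | ∃ k ∈ LinearMap.ker φ, ∃ l, k l = a}, fun A' _ _ => ?_⟩
  have hmap : (Ideal.span {a | ∃ k ∈ LinearMap.ker φ, ∃ l, k l = a}).map (algebraMap A A') = ⊥ ↔
      ∀ k ∈ LinearMap.ker φ, ∀ l, algebraMap A A' (k l) = 0 := by
    rw [Ideal.map_eq_bot_iff_le_ker, Ideal.span_le]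
    exact ⟨fun h k hk l => h ⟨k, hk, l, rfl⟩, fun h a ⟨k, hk, l, e⟩ => e ▸ h k hk l⟩
  have h1 : (Ideal.span {a | ∃ k ∈ LinearMap.ker φ, ∃ l, k l = a}).map (algebraMap A A') = ⊥ →
      Module.Free A' (A' ⊗[A] M) := fun h =>
    Module.Free.of_equiv (LinearEquiv.ofBijective (φ.baseChange A')
      ⟨(baseChange_injective_iff φ A' hφ).mpr (hmap.mp h), baseChange_surjective φ A' hφ⟩)
  have h2 : Module.Flat A' (A' ⊗[A] M) →
      (Ideal.span {a | ∃ k ∈ LinearMap.ker φ, ∃ l, k l = a}).map (algebraMap A A') = ⊥ := fun h =>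
    hmap.mpr ((baseChange_injective_iff φ A' hφ).mp (injective_of_flat φ A' hJ hφ hker))
  exact ⟨⟨fun h => h2 inferInstance, h1⟩, ⟨h2, fun h => have := h1 h; inferInstance⟩⟩

theorem exists_least_ideal (M : Type v) [AddCommGroup M] [Module A M] {J : Ideal A} (hJ : IsNilpotent J)
    (hfree : Module.Free (A ⧸ J) ((A ⧸ J) ⊗[A] M)) :
    ∃ R₀ : Ideal A,
      IsLeast {R : Ideal A | Module.Free (A ⧸ R) ((A ⧸ R) ⊗[A] M)} R₀ ∧
      IsLeast {R : Ideal A | Module.Flat (A ⧸ R) ((A ⧸ R) ⊗[A] M)} R₀ ∧
      ∀ (A' : Type u) [CommRing A'] [Algebra A A'],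
        (Module.Free A' (A' ⊗[A] M) ↔ Ideal.map (algebraMap A A') R₀ = ⊥) ∧
        (Module.Flat A' (A' ⊗[A] M) ↔ Ideal.map (algebraMap A A') R₀ = ⊥) := by
  obtain ⟨R₀, h⟩ := exists_ideal M hJ hfree
  have hq : ∀ R : Ideal A, R₀.map (algebraMap A (A ⧸ R)) = ⊥ ↔ R₀ ≤ R := fun R => by
    rw [Ideal.map_eq_bot_iff_le_ker, Ideal.Quotient.algebraMap_eq, Ideal.mk_ker]
  refine ⟨R₀, ⟨?_, fun R hR => (hq R).mp ((h (A ⧸ R)).1.mp hR)⟩, ⟨?_, fun R hR => (hq R).mp ((h (A ⧸ R)).2.mp hR)⟩, h⟩
  · exact (h (A ⧸ R₀)).1.mpr ((hq R₀).mpr le_rfl)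
  · exact (h (A ⧸ R₀)).2.mpr ((hq R₀).mpr le_rfl)

theorem free_of_flat_family {J : Ideal A} (hJ : IsNilpotent J) {κ : Type*} (B : κ → Type u)
    [∀ i, CommRing (B i)] [∀ i, Algebra A (B i)]
    (hB : ∀ a : A, (∀ i, algebraMap A (B i) a = 0) → a = 0)
    (M : Type v) [AddCommGroup M] [Module A M]
    (hflat : ∀ i, Module.Flat (B i) (B i ⊗[A] M)) (hfreeJ : Module.Free (A ⧸ J) ((A ⧸ J) ⊗[A] M)) :
    Module.Free A M := by
  obtain ⟨R₀, h⟩ := exists_ideal M hJ hfreeJ
  have hbot : R₀ = ⊥ := eq_bot_iff.mpr fun a ha => hB a fun i => by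
    have := Ideal.mem_map_of_mem (algebraMap A (B i)) ha
    rw [(h (B i)).2.mp (hflat i)] at this
    simpa using this
  have := (h A).1.mpr (by simp [hbot])
  exact Module.Free.of_equiv (TensorProduct.lid A M)

theorem flat_iff_of_semilocal (hfin : Finite (MaximalSpectrum A)) (hnil : IsNilpotent (Ring.jacobson A))
    {κ : Type*} (B : κ → Type u) [∀ i, CommRing (B i)] [∀ i, Algebra A (B i)]
    (hB : ∀ a : A, (∀ i, algebraMap A (B i) a = 0) → a = 0)
    (M : Type v) [AddCommGroup M] [Module A M] :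
    Module.Flat A M ↔ ∀ i, Module.Flat (B i) (B i ⊗[A] M) := by
  refine ⟨fun h i => inferInstance, fun hflat => ?_⟩
  classical
  apply Module.flat_of_localized_maximal
  intro m hm
  rw [← Module.flat_iff_of_isLocalization (S := Localization.AtPrime m) (p := m.primeCompl)]
  have hmaxP : ∀ P : Ideal A, P.IsPrime → P.IsMaximal := by
    intro P hP
    have := Fintype.ofFinite (MaximalSpectrum A)
    obtain ⟨n, hn⟩ := hnil
    have h1 : Ring.jacobson A ≤ P := hP.le_of_pow_le (n := n) (by rw [hn]; exact bot_le)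
    have h2 : (Finset.univ.inf fun x : MaximalSpectrum A => x.asIdeal) ≤ P := by
      refine le_trans ?_ h1
      rw [Ring.jacobson_eq_sInf_isMaximal]
      exact le_sInf fun I hI => Finset.inf_le (f := fun x : MaximalSpectrum A => x.asIdeal) (Finset.mem_univ ⟨I, hI⟩)
    obtain ⟨x, -, hx⟩ := (hP.inf_le' ).mp h2
    exact (x.isMaximal.eq_of_le hP.ne_top hx) ▸ x.isMaximal
  have hfinP : Finite (PrimeSpectrum A) := Finite.of_injective
    (fun P => (⟨P.asIdeal, hmaxP _ P.isPrime⟩ : MaximalSpectrum A))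
    fun P Q e => PrimeSpectrum.ext (congrArg MaximalSpectrum.asIdeal e)
  let mp : PrimeSpectrum A := ⟨m, hm.isPrime⟩
  have hcl : IsClopen ({mp} : Set (PrimeSpectrum A)) := by
    refine ⟨(PrimeSpectrum.isClosed_singleton_iff_isMaximal _).mpr hm, ?_⟩
    rw [← isClosed_compl_iff, ← Set.biUnion_of_singleton ({mp}ᶜ)]
    exact (Set.toFinite _).isClosed_biUnion fun P _ =>
      (PrimeSpectrum.isClosed_singleton_iff_isMaximal _).mpr (hmaxP _ P.isPrime)
  obtain ⟨e, he, hes⟩ := PrimeSpectrum.exists_idempotent_basicOpen_eq_of_isClopen hcl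
  have hem : e ∉ m := (Set.ext_iff.mp hes mp).mp rfl
  have hedvd : ∀ t ∉ m, ∃ c, e = c * t := by
    intro t ht
    have : e ∈ (Ideal.span {t}).radical := by
      rw [Ideal.radical_eq_sInf]
      refine Submodule.mem_sInf.mpr ?_
      rintro P ⟨hP, hPp⟩
      by_contra heP
      have := (Set.ext_iff.mp hes ⟨P, hPp⟩).mpr heP
      have hPm : P = m := congrArg PrimeSpectrum.asIdeal (Set.mem_singleton_iff.mp this)
      exact ht (hPm ▸ hP (Ideal.mem_span_singleton_self t))
    obtain ⟨n, hn⟩ := this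
    obtain ⟨c, hc⟩ := Ideal.mem_span_singleton'.mp hn
    rcases n with - | n
    · exact ⟨e * c, by rw [mul_assoc, hc, pow_zero, mul_one]⟩
    · exact ⟨c, by rw [hc, he.pow_succ_eq]⟩
  let C : κ → Type u := fun i => Localization.AtPrime m ⊗[A] B i
  have hC : ∀ x : Localization.AtPrime m, (∀ i, algebraMap (Localization.AtPrime m) (C i) x = 0) → x = 0 := by
    intro x hx
    obtain ⟨a, s, rfl⟩ := IsLocalization.exists_mk'_eq m.primeCompl x
    have hea : e * a = 0 := by
      refine hB _ fun i => ?_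
      have h0 : (algebraMap A (Localization.AtPrime m) a) ⊗ₜ[A] (1 : B i) = 0 := by
        have := hx i
        rw [Algebra.TensorProduct.algebraMap_apply] at this
        simp only [Algebra.algebraMap_self, RingHom.id_apply] at this
        rw [← IsLocalization.mk'_spec (Localization.AtPrime m) a s, mul_comm, ← Algebra.smul_def,
          ← TensorProduct.smul_tmul', this, smul_zero]
      have hloc : IsLocalizedModule m.primeCompl (TensorProduct.mk A (Localization.AtPrime m) (B i) 1) :=
        (isLocalizedModule_iff_isBaseChange m.primeCompl (Localization.AtPrime m) _).mpr (TensorProduct.isBaseChange A (B i) _)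
      rw [show (algebraMap A (Localization.AtPrime m) a) ⊗ₜ[A] (1 : B i) =
        TensorProduct.mk A (Localization.AtPrime m) (B i) 1 (algebraMap A (B i) a) by
          rw [Algebra.algebraMap_eq_smul_one, Algebra.algebraMap_eq_smul_one]
          simp only [TensorProduct.mk_apply, TensorProduct.smul_tmul]] at h0
      obtain ⟨t, ht⟩ := (IsLocalizedModule.eq_zero_iff m.primeCompl
        (TensorProduct.mk A (Localization.AtPrime m) (B i) 1)).mp h0
      obtain ⟨c, hc⟩ := hedvd t t.2
      rw [Submonoid.smul_def, Algebra.smul_def, ← map_mul] at ht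
      rw [hc, mul_assoc, map_mul, ht, mul_zero]
    rw [IsLocalization.mk'_eq_zero_iff]
    exact ⟨⟨e, hem⟩, hea⟩
  have hCflat : ∀ i, Module.Flat (C i) (C i ⊗[Localization.AtPrime m] LocalizedModule m.primeCompl M) := by
    intro i
    let : Algebra (B i) (C i) := Algebra.TensorProduct.rightAlgebra
    have : IsScalarTower A (B i) (C i) := Algebra.TensorProduct.right_isScalarTower
    have := hflat i
    have h1 : Module.Flat (C i) (C i ⊗[B i] (B i ⊗[A] M)) := inferInstance
    have h2 : Module.Flat (C i) (C i ⊗[A] M) :=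
      Module.Flat.of_linearEquiv (TensorProduct.AlgebraTensorModule.cancelBaseChange A (B i) (C i) (C i) M).symm
    refine Module.Flat.of_linearEquiv (R := C i) (M := C i ⊗[A] M) ?_
    refine (TensorProduct.AlgebraTensorModule.congr (LinearEquiv.refl (C i) (C i))
      (LocalizedModule.equivTensorProduct m.primeCompl M)) ≪≫ₗ ?_
    exact TensorProduct.AlgebraTensorModule.cancelBaseChange A (Localization.AtPrime m) (C i) (C i) M
  have hnil' : IsNilpotent (IsLocalRing.maximalIdeal (Localization.AtPrime m)) := by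
    obtain ⟨n, hn⟩ := hnil
    refine ⟨n, eq_bot_iff.mpr ?_⟩
    have hj : IsLocalRing.maximalIdeal (Localization.AtPrime m) ≤ (Ring.jacobson A).map (algebraMap A _) := by
      rw [← Localization.AtPrime.map_eq_maximalIdeal, Ideal.map_le_iff_le_comap]
      intro a ha
      have hea : e * a ∈ Ring.jacobson A := by
        rw [Ring.jacobson_eq_sInf_isMaximal, Submodule.mem_sInf]
        intro I hI
        by_cases hIm : I = m
        · exact hIm ▸ m.mul_mem_left e ha
        · refine Ideal.mul_mem_right a I ?_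
          by_contra heI
          exact hIm (congrArg PrimeSpectrum.asIdeal
            (Set.mem_singleton_iff.mp ((Set.ext_iff.mp hes ⟨I, hI.isPrime⟩).mpr heI)))
      have hu : IsUnit (algebraMap A (Localization.AtPrime m) e) :=
        IsLocalization.map_units (Localization.AtPrime m) (⟨e, hem⟩ : m.primeCompl)
      rw [Ideal.mem_comap, ← Ideal.unit_mul_mem_iff_mem _ hu, ← map_mul]
      exact Ideal.mem_map_of_mem _ hea
    refine (pow_le_pow_left' hj n).trans ?_
    rw [← Ideal.map_pow, hn]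
    simp
  let : Field (Localization.AtPrime m ⧸ IsLocalRing.maximalIdeal (Localization.AtPrime m)) :=
    Ideal.Quotient.field _
  have := free_of_flat_family hnil' C hC (LocalizedModule m.primeCompl M) hCflat (Module.Free.of_divisionRing _ _)
  infer_instance

end Groth.Agent.FlatNil62
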