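import Mathlib.RingTheory.Flat.Equalizer
import Mathlib.RingTheory.Flat.Tensor
import Mathlib.RingTheory.Flat.Localization
import Mathlib.LinearAlgebra.TensorProduct.RightExactness
import Mathlib.LinearAlgebra.TensorProduct.Pi
import Mathlib.Algebra.Module.Torsion.Basic
import Mathlib.RingTheory.Ideal.AssociatedPrime.Finiteness
import Mathlib.RingTheory.Localization.AtPrime.Basic

universe u
open TensorProduct

namespace Groth.Agent.FlatNilCrit62

variable {A : Type u} [CommRing A]

theorem rTensor_injective_of_killed {J : Ideal A} {M : Type u} [AddCommGroup M] [Module A M]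
    [Module.Flat (A ⧸ J) ((A ⧸ J) ⊗[A] M)]
    {N N' : Type*} [AddCommGroup N] [Module A N] [AddCommGroup N'] [Module A N']
    (hN : Module.IsTorsionBySet A N J) (hN' : Module.IsTorsionBySet A N' J)
    (g : N →ₗ[A] N') (hg : Function.Injective g) : Function.Injective (g.rTensor M) := by
  let := hN.module
  let := hN'.module
  have : IsScalarTower A (A ⧸ J) N := hN.isScalarTower
  have : IsScalarTower A (A ⧸ J) N' := hN'.isScalarTower
  let g' : N →ₗ[A ⧸ J] N' :=
    { toFun := g
      map_add' := g.map_add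
      map_smul' := fun c n => by
        obtain ⟨c, rfl⟩ := Ideal.Quotient.mk_surjective c
        exact g.map_smul c n }
  have h := Module.Flat.rTensor_preserves_injective_linearMap (M := (A ⧸ J) ⊗[A] M) g' hg
  let e := TensorProduct.AlgebraTensorModule.cancelBaseChange A (A ⧸ J) (A ⧸ J) N M
  let e' := TensorProduct.AlgebraTensorModule.cancelBaseChange A (A ⧸ J) (A ⧸ J) N' M
  have key : ∀ z, g.rTensor M (e z) = e' (g'.rTensor ((A ⧸ J) ⊗[A] M) z) := by
    intro z
    induction z using TensorProduct.induction_on with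
    | zero => simp
    | add x y hx hy => simp only [map_add, hx, hy]
    | tmul n w =>
      induction w using TensorProduct.induction_on with
      | zero => simp
      | add x y hx hy => simp only [tmul_add, map_add, hx, hy]
      | tmul c m =>
        simp only [e, e', LinearMap.rTensor_tmul, TensorProduct.AlgebraTensorModule.cancelBaseChange_tmul]
        rw [show g (c • n) = c • g' n from g'.map_smul c n]
  intro x y hxy
  obtain ⟨x, rfl⟩ := e.surjective x
  obtain ⟨y, rfl⟩ := e.surjective y
  rw [key, key] at hxy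
  exact congrArg e (h (e'.injective hxy))

theorem flat_of_nilpotent_injective {J : Ideal A} (hJ : IsNilpotent J) (M : Type u) [AddCommGroup M]
    [Module A M] [Module.Flat (A ⧸ J) ((A ⧸ J) ⊗[A] M)]
    (hinj : Function.Injective (J.subtype.rTensor M)) : Module.Flat A M := by
  -- submodules of free modules containing `J F`
  have hfree : ∀ (F : Type u) [AddCommGroup F] [Module A F] [Module.Flat A F] (R : Submodule A F),
      J • (⊤ : Submodule A F) ≤ R → Function.Injective (R.subtype.rTensor M) := by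
    intro F _ _ _ R hR
    rw [← LinearMap.ker_eq_bot, eq_bot_iff]
    intro x hx
    rw [LinearMap.mem_ker] at hx
    rw [Submodule.mem_bot]
    let S : Submodule A R := (J • (⊤ : Submodule A F)).comap R.subtype
    let g : (R ⧸ S) →ₗ[A] F ⧸ (J • (⊤ : Submodule A F)) := Submodule.mapQ _ _ R.subtype le_rfl
    have hgi : Function.Injective g := by
      rw [← LinearMap.ker_eq_bot, eq_bot_iff]
      intro q hq
      obtain ⟨r, rfl⟩ := S.mkQ_surjective q
      rw [LinearMap.mem_ker, Submodule.mkQ_apply, Submodule.mapQ_apply, Submodule.Quotient.mk_eq_zero] at hq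
      rw [Submodule.mem_bot, Submodule.mkQ_apply, Submodule.Quotient.mk_eq_zero]
      exact hq
    have hk1 : Module.IsTorsionBySet A (F ⧸ (J • (⊤ : Submodule A F))) J :=
      (Module.isTorsionBySet_quotient_iff _ _).mpr fun z a ha => Submodule.smul_mem_smul ha Submodule.mem_top
    have hk2 : Module.IsTorsionBySet A (R ⧸ S) J :=
      (Module.isTorsionBySet_quotient_iff _ _).mpr fun z a ha =>
        (Submodule.smul_mem_smul ha (Submodule.mem_top (x := (z : F))) : a • (z : F) ∈ J • (⊤ : Submodule A F))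
    have h1 : S.mkQ.rTensor M x = 0 := by
      apply rTensor_injective_of_killed hk2 hk1 g hgi
      rw [map_zero, ← LinearMap.rTensor_comp_apply,
        show g ∘ₗ S.mkQ = (J • (⊤ : Submodule A F)).mkQ ∘ₗ R.subtype from rfl,
        LinearMap.rTensor_comp_apply, hx, map_zero]
    obtain ⟨y, rfl⟩ := ((rTensor_exact M (LinearMap.exact_subtype_mkQ S) S.mkQ_surjective) x).mp h1
    let μ0 : ↥J ⊗[A] F →ₗ[A] F := (TensorProduct.lid A F).toLinearMap ∘ₗ J.subtype.rTensor F
    have hμmem : ∀ w, μ0 w ∈ J • (⊤ : Submodule A F) := by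
      intro w
      induction w using TensorProduct.induction_on with
      | zero => simp
      | add a b ha hb => rw [map_add]; exact add_mem ha hb
      | tmul j f => simpa [μ0] using Submodule.smul_mem_smul j.2 (Submodule.mem_top (x := f))
    let μ : ↥J ⊗[A] F →ₗ[A] S :=
      LinearMap.codRestrict S (LinearMap.codRestrict R μ0 fun w => hR (hμmem w)) fun w => hμmem w
    have hμs : Function.Surjective μ := by
      rintro ⟨⟨f, hfR⟩, hf⟩
      have hf' : f ∈ J • (⊤ : Submodule A F) := hf
      have : f ∈ LinearMap.range μ0 := by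
        refine Submodule.smul_le.mpr ?_ hf'
        intro j hj z _
        exact ⟨(⟨j, hj⟩ : ↥J) ⊗ₜ z, by simp [μ0]⟩
      obtain ⟨w, hw⟩ := this
      exact ⟨w, Subtype.ext (Subtype.ext hw)⟩
    obtain ⟨z, rfl⟩ := LinearMap.rTensor_surjective M hμs y
    have h2 : μ0.rTensor M z = 0 := by
      rw [← hx, ← LinearMap.rTensor_comp_apply, ← LinearMap.rTensor_comp_apply]
      rfl
    have h3 : Function.Injective (μ0.rTensor M) := by
      have hinj' : Function.Injective ((J.subtype.rTensor M).rTensor F) :=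
        Module.Flat.rTensor_preserves_injective_linearMap _ hinj
      have e : ∀ t, μ0.rTensor M t = ((TensorProduct.lid A F).toLinearMap.rTensor M)
          ((TensorProduct.rightComm A A M F).toLinearMap
            ((J.subtype.rTensor M).rTensor F ((TensorProduct.rightComm A ↥J F M).toLinearMap t))) := by
        intro t
        induction t using TensorProduct.induction_on with
        | zero => simp
        | add a b ha hb => simp only [map_add, ha, hb]
        | tmul w m =>
          induction w using TensorProduct.induction_on with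
          | zero => simp
          | add a b ha hb => simp only [add_tmul, map_add, ha, hb]
          | tmul j f => simp [μ0]
      intro a b hab
      rw [e, e] at hab
      have hl : Function.Injective ((TensorProduct.lid A F).toLinearMap.rTensor M) :=
        ((TensorProduct.lid A F).rTensor M).injective
      exact (TensorProduct.rightComm A ↥J F M).injective (hinj' ((TensorProduct.rightComm A A M F).injective (hl hab)))
    have : z = 0 := h3 (by rw [h2, map_zero])
    simp [this]
  -- submodules with quotient killed by J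
  have hstep : ∀ (L : Type u) [AddCommGroup L] [Module A L] (L' : Submodule A L),
      J • (⊤ : Submodule A L) ≤ L' → Function.Injective (L'.subtype.rTensor M) := by
    intro L _ _ L' hL
    let π : (L →₀ A) →ₗ[A] L := Finsupp.linearCombination A id
    have hπ : Function.Surjective π := Finsupp.linearCombination_id_surjective A L
    let R : Submodule A (L →₀ A) := L'.comap π
    have hR : J • (⊤ : Submodule A (L →₀ A)) ≤ R := by
      rw [← Submodule.map_le_iff_le_comap, Submodule.map_smul'', Submodule.map_top,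
        LinearMap.range_eq_top.mpr hπ]
      exact hL
    rw [← LinearMap.ker_eq_bot, eq_bot_iff]
    intro y hy
    rw [LinearMap.mem_ker] at hy
    let π' : R →ₗ[A] L' := π.restrict fun _ h => h
    have hπ' : Function.Surjective π' := by
      rintro ⟨l, hl⟩
      obtain ⟨f, rfl⟩ := hπ l
      exact ⟨⟨f, hl⟩, rfl⟩
    obtain ⟨r, rfl⟩ := LinearMap.rTensor_surjective M hπ' y
    have h1 : π.rTensor M (R.subtype.rTensor M r) = 0 := by
      rw [← hy, ← LinearMap.rTensor_comp_apply, ← LinearMap.rTensor_comp_apply]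
      rfl
    obtain ⟨s, hs⟩ := ((rTensor_exact (R := A) (M := ↥(LinearMap.ker π)) (N := L →₀ A) (P := L) (f := (LinearMap.ker π).subtype) (g := π) M
      (LinearMap.exact_subtype_ker_map π) hπ) _).mp h1
    let k : LinearMap.ker π →ₗ[A] R := Submodule.inclusion fun f hf => by
      show π f ∈ L'
      rw [LinearMap.mem_ker.mp hf]; exact zero_mem _
    have h2 : r = k.rTensor M s := hfree (L →₀ A) R hR (by
      rw [← hs, ← LinearMap.rTensor_comp_apply]; rfl)
    have h3 : π' ∘ₗ k = 0 := LinearMap.ext fun f => Subtype.ext (LinearMap.mem_ker.mp f.2)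
    rw [Submodule.mem_bot, h2, ← LinearMap.rTensor_comp_apply, h3, LinearMap.rTensor_zero, LinearMap.zero_apply]
  rw [Module.Flat.iff_rTensor_injective']
  intro I
  obtain ⟨n, hn⟩ := hJ
  have key : ∀ k : ℕ, Function.Injective ((I ⊔ J ^ k : Ideal A).subtype.rTensor M) := by
    intro k
    induction k with
    | zero =>
      exact hstep A (I ⊔ J ^ 0) (by simp)
    | succ k ih =>
      let L : Ideal A := I ⊔ J ^ k
      let L' : Ideal A := I ⊔ J ^ (k + 1)
      have hle : L' ≤ L := sup_le_sup_left (Ideal.pow_le_pow_right (Nat.le_succ k)) I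
      have hJL : J • (⊤ : Submodule A L) ≤ Submodule.comap L.subtype L' := by
        rw [← Submodule.map_le_iff_le_comap, Submodule.map_smul'', Submodule.map_subtype_top, smul_eq_mul]
        show J * (I ⊔ J ^ k) ≤ I ⊔ J ^ (k + 1)
        rw [Ideal.mul_sup, ← pow_succ']
        exact sup_le_sup_right Ideal.mul_le_right _
      have h1 := hstep L (Submodule.comap L.subtype L') hJL
      let e : ↥L' ≃ₗ[A] ↥(Submodule.comap L.subtype L') := (Submodule.comapSubtypeEquivOfLe hle).symm
      have h2 : L'.subtype = L.subtype ∘ₗ ((Submodule.comap L.subtype L').subtype ∘ₗ e.toLinearMap) := by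
        ext z; rfl
      show Function.Injective (L'.subtype.rTensor M)
      rw [h2, LinearMap.rTensor_comp, LinearMap.rTensor_comp, LinearMap.coe_comp, LinearMap.coe_comp]
      exact ih.comp (h1.comp (e.rTensor M).injective)
  have := key n
  rw [hn, Ideal.zero_eq_bot, sup_bot_eq] at this
  exact this

theorem flat_baseChange_quotient (J : Ideal A) (M : Type u) [AddCommGroup M] [Module A M]
    (hM : Module.Flat (A ⧸ J) ((A ⧸ J) ⊗[A] M)) (R : Type u) [CommRing R] [Algebra A R] (b : Ideal R)
    (hb : J.map (algebraMap A R) ≤ b) : Module.Flat (R ⧸ b) ((R ⧸ b) ⊗[R] (R ⊗[A] M)) := by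
  let : Algebra (A ⧸ J) (R ⧸ b) := (Ideal.Quotient.lift J (algebraMap A (R ⧸ b)) fun x hx => by
    show (algebraMap A (R ⧸ b)) x = 0
    rw [IsScalarTower.algebraMap_apply A R (R ⧸ b), Ideal.Quotient.algebraMap_eq]
    exact Ideal.Quotient.eq_zero_iff_mem.mpr (hb (Ideal.mem_map_of_mem _ hx))).toAlgebra
  have : IsScalarTower A (A ⧸ J) (R ⧸ b) := IsScalarTower.of_algebraMap_eq fun x => rfl
  exact Module.Flat.of_linearEquiv (R := R ⧸ b)
    ((TensorProduct.AlgebraTensorModule.cancelBaseChange A R (R ⧸ b) (R ⧸ b) M) ≪≫ₗ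
    (TensorProduct.AlgebraTensorModule.cancelBaseChange A (A ⧸ J) (R ⧸ b) (R ⧸ b) M).symm)

theorem flat_tensor_algebra (R B : Type u) [CommRing R] [Algebra A R] [CommRing B] [Algebra A B]
    (M : Type u) [AddCommGroup M] [Module A M] (h : Module.Flat B (B ⊗[A] M)) :
    Module.Flat (R ⊗[A] B) ((R ⊗[A] B) ⊗[R] (R ⊗[A] M)) := by
  let : Algebra B (R ⊗[A] B) := Algebra.TensorProduct.rightAlgebra
  have : IsScalarTower A B (R ⊗[A] B) := Algebra.TensorProduct.right_isScalarTower
  exact Module.Flat.of_linearEquiv (R := R ⊗[A] B)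
    ((TensorProduct.AlgebraTensorModule.cancelBaseChange A R (R ⊗[A] B) (R ⊗[A] B) M) ≪≫ₗ
    (TensorProduct.AlgebraTensorModule.cancelBaseChange A B (R ⊗[A] B) (R ⊗[A] B) M).symm)

theorem joint_colon {κ : Type*} (B : κ → Type u) [∀ i, CommRing (B i)] [∀ i, Algebra A (B i)]
    (hjoint : ∀ a : A, (∀ i, algebraMap A (B i) a = 0) → a = 0) (J c : Ideal A)
    (hc : ∀ x, x ∈ c ↔ ∀ j ∈ J, x * j = 0) (a : A ⧸ c)
    (ha : ∀ i, algebraMap (A ⧸ c) ((A ⧸ c) ⊗[A] B i) a = 0) : a = 0 := by
  obtain ⟨a, rfl⟩ := Ideal.Quotient.mk_surjective a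
  rw [Ideal.Quotient.eq_zero_iff_mem, hc]
  intro j hj
  refine hjoint _ fun i => ?_
  let φ : A →ₗ[A] B i →ₗ[A] B i := LinearMap.toSpanSingleton A _ (j • LinearMap.id)
  have hφ : c ≤ LinearMap.ker φ := fun x hx => LinearMap.ext fun b => by
    show x • (j • b) = 0
    rw [smul_smul, (hc x).mp hx j hj, zero_smul]
  let χ : (A ⧸ c) ⊗[A] B i →ₗ[A] B i := TensorProduct.lift (Submodule.liftQ c φ hφ)
  have h1 : algebraMap (A ⧸ c) ((A ⧸ c) ⊗[A] B i) (Ideal.Quotient.mk c a) =
      Ideal.Quotient.mk c a ⊗ₜ[A] (1 : B i) := rfl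
  have h0 := congrArg χ ((h1.symm).trans (ha i))
  rw [map_zero] at h0
  rw [← h0]
  show algebraMap A (B i) (a * j) = a • (j • (1 : B i))
  rw [smul_smul, Algebra.algebraMap_eq_smul_one]

theorem flat_mod_inf (J c : Ideal A) (hJ : IsNilpotent J) (M : Type u) [AddCommGroup M] [Module A M]
    (hM : Module.Flat (A ⧸ J) ((A ⧸ J) ⊗[A] M)) (hMc : Module.Flat (A ⧸ c) ((A ⧸ c) ⊗[A] M)) :
    Module.Flat (A ⧸ (c ⊓ J)) ((A ⧸ (c ⊓ J)) ⊗[A] M) := by
  let R := A ⧸ (c ⊓ J)
  let b : Ideal R := J.map (Ideal.Quotient.mk (c ⊓ J))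
  let a : Ideal R := c.map (Ideal.Quotient.mk (c ⊓ J))
  have hM1 := flat_baseChange_quotient J M hM R b le_rfl
  have hM2 := flat_baseChange_quotient c M hMc R a le_rfl
  have hab : ∀ x ∈ a, x ∈ b → x = 0 := by
    intro x hxa hxb
    obtain ⟨u, hu, rfl⟩ := (Ideal.mem_map_iff_of_surjective _ Ideal.Quotient.mk_surjective).mp hxa
    obtain ⟨v, hv, huv⟩ := (Ideal.mem_map_iff_of_surjective _ Ideal.Quotient.mk_surjective).mp hxb
    have hvu : v - u ∈ c ⊓ J := Ideal.Quotient.eq.mp huv
    rw [Ideal.Quotient.eq_zero_iff_mem]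
    exact ⟨hu, by simpa using J.sub_mem hv hvu.2⟩
  have hb : IsNilpotent b := by
    obtain ⟨n, hn⟩ := hJ
    refine ⟨n, ?_⟩
    rw [← Ideal.map_pow, hn]
    exact Ideal.map_bot
  refine @flat_of_nilpotent_injective R _ b hb (R ⊗[A] M) _ _ hM1 ?_
  let q : ↥b →ₗ[R] R ⧸ a := (Submodule.mkQ a) ∘ₗ b.subtype
  have hb1 : Module.IsTorsionBySet R ↥b a := fun x r => Subtype.ext
    (hab _ (Ideal.mul_mem_right _ a r.2) (b.mul_mem_left _ x.2))
  have hb2 : Module.IsTorsionBySet R (R ⧸ a) a :=
    (Module.isTorsionBySet_quotient_iff _ _).mpr fun z r hr => Ideal.mul_mem_right z a hr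
  have hq : Function.Injective q := by
    rw [← LinearMap.ker_eq_bot, eq_bot_iff]
    intro z hz
    rw [LinearMap.mem_ker, LinearMap.comp_apply, Submodule.mkQ_apply, Submodule.Quotient.mk_eq_zero] at hz
    exact Subtype.ext (hab _ hz z.2)
  have := @rTensor_injective_of_killed R _ a (R ⊗[A] M) _ _ hM2 ↥b (R ⧸ a) _ _ _ _ hb1 hb2 q hq
  rw [LinearMap.rTensor_comp, LinearMap.coe_comp] at this
  exact this.of_comp

theorem rTensor_injective_of_family {κ : Type*} [Finite κ] (B : κ → Type u) [∀ i, CommRing (B i)]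
    [∀ i, Algebra A (B i)] (hB : ∀ i, Module.Flat A (B i))
    (hjoint : ∀ a : A, (∀ i, algebraMap A (B i) a = 0) → a = 0) (M : Type u) [AddCommGroup M] [Module A M]
    (hBM : ∀ i, Module.Flat (B i) (B i ⊗[A] M)) (J I : Ideal A) (hIJ : ∀ z ∈ I, ∀ j ∈ J, j * z = 0)
    (hM : Module.Flat (A ⧸ J) ((A ⧸ J) ⊗[A] M)) : Function.Injective (I.subtype.rTensor M) := by
  classical
  rw [← LinearMap.ker_eq_bot, eq_bot_iff]
  intro x hx
  rw [LinearMap.mem_ker] at hx
  rw [Submodule.mem_bot]
  have := Fintype.ofFinite κ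
  let g : ↥I →ₗ[A] (∀ i, B i ⊗[A] ↥I) := LinearMap.pi fun i => TensorProduct.mk A (B i) ↥I 1
  have hg : Function.Injective g := by
    rw [← LinearMap.ker_eq_bot, eq_bot_iff]
    intro z hz
    rw [LinearMap.mem_ker] at hz
    rw [Submodule.mem_bot]
    refine Subtype.ext (hjoint _ fun i => ?_)
    have h := congrArg (fun w => (TensorProduct.rid A (B i)) (I.subtype.lTensor (B i) w)) (congrFun hz i)
    simpa [g, Algebra.algebraMap_eq_smul_one] using h
  have ht1 : Module.IsTorsionBySet A ↥I J := fun z r => Subtype.ext (hIJ z z.2 r r.2)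
  have ht2 : Module.IsTorsionBySet A (∀ i, B i ⊗[A] ↥I) J := by
    intro w r
    funext i
    show (r : A) • w i = 0
    induction w i using TensorProduct.induction_on with
    | zero => simp
    | add a b ha hb => rw [smul_add, ha, hb, add_zero]
    | tmul b z => rw [← TensorProduct.tmul_smul, ht1 (x := z) (a := r), tmul_zero]
  apply @rTensor_injective_of_killed A _ J M _ _ hM ↥I _ _ _ _ _ ht1 ht2 g hg
  rw [map_zero]
  have hsum : ∀ w : (∀ i, B i ⊗[A] ↥I) ⊗[A] M, w = ∑ i, (LinearMap.single A _ i).rTensor M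
      ((LinearMap.proj i).rTensor M w) := by
    intro w
    conv_lhs => rw [← LinearMap.id_apply (R := A) w, ← LinearMap.rTensor_id,
      show (LinearMap.id : (∀ i, B i ⊗[A] ↥I) →ₗ[A] _) =
        ∑ i, (LinearMap.single A _ i) ∘ₗ (LinearMap.proj i) from (LinearMap.ext fun w => funext fun i => by simp [Finset.sum_apply, Pi.single_apply])]
    rw [show LinearMap.rTensor M = LinearMap.rTensorHom (R := A) M from rfl, map_sum, LinearMap.sum_apply]
    simp [LinearMap.rTensor_comp_apply]
  rw [hsum (g.rTensor M x)]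
  refine Finset.sum_eq_zero fun i _ => ?_
  have := hBM i
  have := hB i
  have hflatA : Module.Flat A (B i ⊗[A] M) := Module.Flat.trans A (B i) _
  let y : ↥I ⊗[A] (B i ⊗[A] M) := (TensorProduct.mk A (B i) M 1).lTensor ↥I x
  have hy : y = 0 := by
    apply Module.Flat.rTensor_preserves_injective_linearMap I.subtype I.subtype_injective
    rw [map_zero]
    show I.subtype.rTensor _ ((TensorProduct.mk A (B i) M 1).lTensor ↥I x) = 0
    rw [← LinearMap.comp_apply, LinearMap.rTensor_comp_lTensor, ← LinearMap.lTensor_comp_rTensor,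
      LinearMap.comp_apply, hx, map_zero]
  have hcomp : (LinearMap.proj i).rTensor M (g.rTensor M x) =
      ((TensorProduct.leftComm A ↥I (B i) M).trans (TensorProduct.assoc A (B i) ↥I M).symm) y := by
    rw [← LinearMap.rTensor_comp_apply]
    show _ = ((TensorProduct.leftComm A ↥I (B i) M).trans (TensorProduct.assoc A (B i) ↥I M).symm).toLinearMap
      ((TensorProduct.mk A (B i) M 1).lTensor ↥I x)
    rw [← LinearMap.comp_apply]
    congr 1
    exact TensorProduct.ext' fun z m => rfl
  rw [hcomp, hy, map_zero, map_zero]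

theorem flat_of_flat_family {κ : Type*} [Finite κ] : ∀ (n : ℕ) {A : Type u} [CommRing A] (J : Ideal A),
    J ^ (n + 1) = ⊥ → ∀ (B : κ → Type u) [∀ i, CommRing (B i)] [∀ i, Algebra A (B i)],
    (∀ i, Module.Flat A (B i)) → (∀ a : A, (∀ i, algebraMap A (B i) a = 0) → a = 0) →
    ∀ (M : Type u) [AddCommGroup M] [Module A M], (∀ i, Module.Flat (B i) (B i ⊗[A] M)) →
    Module.Flat (A ⧸ J) ((A ⧸ J) ⊗[A] M) → Module.Flat A M := by
  intro n
  induction n with
  | zero =>
    intro A _ J hJ B _ _ _ _ M _ _ _ hM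
    refine @flat_of_nilpotent_injective A _ J ⟨1, hJ⟩ M _ _ hM ?_
    rw [pow_one] at hJ
    subst hJ
    intro x y _
    have : Subsingleton (↥(⊥ : Ideal A) ⊗[A] M) := inferInstance
    exact Subsingleton.elim x y
  | succ n ih =>
    intro A _ J hJ B _ _ hB hjoint M _ _ hBM hM
    let c : Ideal A := (⊥ : Ideal A).colon (J : Set A)
    have hc : ∀ x, x ∈ c ↔ ∀ j ∈ J, x * j = 0 := fun x => by
      simp [c, Submodule.mem_annihilator]
    have hMc : Module.Flat (A ⧸ c) ((A ⧸ c) ⊗[A] M) := by
      refine ih (A := A ⧸ c) (J.map (Ideal.Quotient.mk c)) ?_ (fun i => (A ⧸ c) ⊗[A] B i)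
        (fun i => have := hB i; Module.Flat.baseChange A (A ⧸ c) (B i))
        (joint_colon B hjoint J c hc) ((A ⧸ c) ⊗[A] M)
        (fun i => flat_tensor_algebra (A ⧸ c) (B i) M (hBM i))
        (flat_baseChange_quotient J M hM (A ⧸ c) _ le_rfl)
      rw [← Ideal.map_pow, Ideal.map_eq_bot_iff_le_ker, Ideal.mk_ker]
      intro x hx
      rw [hc]
      intro j hj
      have : x * j ∈ J ^ (n + 1 + 1) := by rw [pow_succ]; exact Ideal.mul_mem_mul hx hj
      simpa [hJ] using this
    have hJn : IsNilpotent J := ⟨n + 2, hJ⟩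
    refine @flat_of_nilpotent_injective A _ (c ⊓ J)
      ⟨n + 2, eq_bot_iff.mpr ((Ideal.pow_right_mono inf_le_right _).trans hJ.le)⟩ M _ _
      (flat_mod_inf J c hJn M hM hMc) ?_
    exact rTensor_injective_of_family B hB hjoint M hBM J (c ⊓ J)
      (fun z hz j hj => by rw [mul_comm]; exact (hc z).mp hz.1 j hj) hM

theorem flat_iff_flat_mod_nilpotent_and_ass [IsNoetherianRing A] (J : Ideal A) (hJ : IsNilpotent J)
    (M : Type u) [AddCommGroup M] [Module A M] :
    Module.Flat A M ↔
      Module.Flat (A ⧸ J) ((A ⧸ J) ⊗[A] M) ∧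
        ∀ p : associatedPrimes A A,
          haveI : p.1.IsPrime := IsAssociatedPrime.isPrime p.2
          Module.Flat (Localization.AtPrime p.1) (LocalizedModule p.1.primeCompl M) := by
  constructor
  · intro h
    refine ⟨inferInstance, fun p => ?_⟩
    have : p.1.IsPrime := IsAssociatedPrime.isPrime p.2
    infer_instance
  · rintro ⟨hM, hp⟩
    obtain ⟨n, hn⟩ := hJ
    have : Finite (associatedPrimes A A) := (associatedPrimes.finite A A).to_subtype
    have hprime : ∀ p : associatedPrimes A A, p.1.IsPrime := fun p => IsAssociatedPrime.isPrime p.2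
    refine flat_of_flat_family n J (by rw [pow_succ, hn]; simp) (fun p : associatedPrimes A A =>
      haveI := hprime p; Localization.AtPrime p.1) (fun p => inferInstance) ?_ M ?_ hM
    · intro a ha
      by_contra ha0
      obtain ⟨P, hP, hle⟩ := exists_le_isAssociatedPrime_of_isNoetherianRing A a ha0
      have := hprime ⟨P, hP⟩
      obtain ⟨t, ht⟩ := (IsLocalization.map_eq_zero_iff P.primeCompl (Localization.AtPrime P) a).mp (ha ⟨P, hP⟩)
      exact t.2 (hle (Submodule.mem_colon_singleton.mpr (by simpa [smul_eq_mul] using ht)))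
    · intro p
      have := hprime p
      have := hp p
      exact Module.Flat.of_linearEquiv (LocalizedModule.equivTensorProduct p.1.primeCompl M).symm

end Groth.Agent.FlatNilCrit62
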