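import Mathlib.RingTheory.Jacobson.Ring
import Mathlib.RingTheory.RingHom.FiniteType
import Mathlib.RingTheory.Ideal.KrullsHeightTheorem
import Mathlib.RingTheory.Spectrum.Prime.Topology

universe u
open TopologicalSpace Topology

namespace Groth.Agent.Goldman62

variable {B : Type u} [CommRing B] [IsDomain B]

/-- A localization away from a nonzero element which is a field surjects onto the fraction field. -/
theorem finiteType_fractionRing_of_isField {f : B} (hf : f ≠ 0)
    (h : IsField (Localization.Away f)) : Algebra.FiniteType B (FractionRing B) := by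
  let := h.toField
  have hu : IsUnit (algebraMap B (FractionRing B) f) :=
    isUnit_iff_ne_zero.mpr (by simpa using hf)
  let φ : Localization.Away f →+* FractionRing B := IsLocalization.Away.lift f hu
  have hφ : ∀ b, φ (algebraMap B _ b) = algebraMap B (FractionRing B) b :=
    fun b => IsLocalization.Away.lift_eq f hu b
  let ψ : Localization.Away f →ₐ[B] FractionRing B := { φ with commutes' := hφ }
  have : Algebra.FiniteType B (Localization.Away f) := IsLocalization.finiteType_of_monoid_fg (Submonoid.powers f) _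
  refine Algebra.FiniteType.of_surjective ψ ?_
  intro z
  obtain ⟨a, b, hb, rfl⟩ := IsFractionRing.div_surjective (A := B) z
  exact ⟨algebraMap B _ a / algebraMap B _ b, by simp [ψ, map_div₀, hφ]⟩

theorem exists_isField_away_of_finiteType {K : Type u} [Field K] [Algebra B K]
    (hinj : Function.Injective (algebraMap B K)) [Algebra.FiniteType B K] :
    ∃ f : B, f ≠ 0 ∧ IsField (Localization.Away f) := by
  classical
  let F := FractionRing B
  have : Module.IsTorsionFree B K := Module.isTorsionFree_iff_algebraMap_injective.mpr hinj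
  have : FaithfulSMul B K := (faithfulSMul_iff_algebraMap_injective B K).mpr hinj
  let : Algebra F K := FractionRing.liftAlgebra B K
  have : Algebra.FiniteType F K := Algebra.FiniteType.of_restrictScalars_finiteType B F K
  have : Module.Finite F K := finite_of_finite_type_of_isJacobsonRing F K
  have halg : ∀ x : K, IsAlgebraic B x := fun x =>
    (IsFractionRing.isAlgebraic_iff B F K).mpr (IsAlgebraic.of_finite F x)
  obtain ⟨s, hs⟩ := (‹Algebra.FiniteType B K› : Algebra.FiniteType B K).out
  have hc : ∀ x : K, ∃ c : B, c ≠ 0 ∧ IsIntegral B (c • x) := fun x =>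
    (halg x).exists_integral_multiple
  choose c hc0 hcint using hc
  refine ⟨∏ x ∈ s, c x, Finset.prod_ne_zero_iff.mpr fun x _ => hc0 x, ?_⟩
  set f := ∏ x ∈ s, c x
  have hf : f ≠ 0 := Finset.prod_ne_zero_iff.mpr fun x _ => hc0 x
  let φ : Localization.Away f →+* K := IsLocalization.Away.lift f
    (isUnit_iff_ne_zero.mpr (by simpa using (map_ne_zero_iff _ hinj).mpr hf) : IsUnit (algebraMap B K f))
  let : Algebra (Localization.Away f) K := φ.toAlgebra
  have : IsScalarTower B (Localization.Away f) K :=
    IsScalarTower.of_algebraMap_eq fun b => (IsLocalization.Away.lift_eq f _ b).symm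
  have : IsDomain (Localization.Away f) :=
    IsLocalization.isDomain_localization (powers_le_nonZeroDivisors_of_noZeroDivisors hf)
  have hint : Algebra.IsIntegral (Localization.Away f) K := by
    constructor
    have hle : Algebra.adjoin B (s : Set K) ≤
        (integralClosure (Localization.Away f) K).restrictScalars B := by
      refine Algebra.adjoin_le fun x hx => ?_
      show IsIntegral (Localization.Away f) x
      have h1 : IsUnit (algebraMap B (Localization.Away f) (c x)) := by
        refine isUnit_of_dvd_unit (map_dvd _ (Finset.dvd_prod_of_mem c hx)) ?_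
        exact IsLocalization.Away.algebraMap_isUnit f
      obtain ⟨v, hv⟩ := h1
      have h2 : IsIntegral (Localization.Away f) (c x • x) := (hcint x).tower_top
      have h3 : x = (↑v⁻¹ : Localization.Away f) • (c x • x) := by
        rw [← algebraMap_smul (Localization.Away f) (c x) x, ← hv, smul_smul, Units.inv_mul, one_smul]
      rw [h3]
      exact h2.smul _
    intro x
    exact hle (hs ▸ Algebra.mem_top)
  refine isField_of_isIntegral_of_isField ?_ (Field.toIsField K)
  show Function.Injective φ
  rw [IsLocalization.injective_iff_map_algebraMap_eq (Submonoid.powers f)]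
  intro x y
  rw [IsLocalization.Away.lift_eq, IsLocalization.Away.lift_eq]
  exact ⟨fun h => congrArg _ (IsLocalization.injective (Localization.Away f) (powers_le_nonZeroDivisors_of_noZeroDivisors hf) h),
    fun h => congrArg _ (hinj h)⟩

theorem isField_away_iff {f : B} (hf : f ≠ 0) :
    IsField (Localization.Away f) ↔ ∀ P : Ideal B, P.IsPrime → P ≠ ⊥ → f ∈ P := by
  have : IsDomain (Localization.Away f) :=
    IsLocalization.isDomain_localization (powers_le_nonZeroDivisors_of_noZeroDivisors hf)
  constructor
  · intro h P hP hP0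
    by_contra hfP
    have hd : Disjoint (Submonoid.powers f : Set B) (P : Set B) :=
      (Ideal.disjoint_powers_iff_notMem f hP.isRadical).mpr hfP
    have h1 := IsLocalization.isPrime_of_isPrime_disjoint (Submonoid.powers f) (Localization.Away f) P hP hd
    let := h.toField
    rcases Ideal.eq_bot_or_top (P.map (algebraMap B (Localization.Away f))) with h2 | h2
    · refine hP0 ?_
      rw [← IsLocalization.under_map_of_isPrime_disjoint (Submonoid.powers f) (Localization.Away f) hP hd, h2]
      exact Ideal.comap_bot_of_injective _ (IsLocalization.injective _ (powers_le_nonZeroDivisors_of_noZeroDivisors hf))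
    · exact h1.ne_top h2
  · intro h
    rw [← not_not (a := IsField _), Ring.not_isField_iff_exists_prime]
    rintro ⟨Q, hQ0, hQ⟩
    have := ((IsLocalization.isPrime_iff_isPrime_disjoint (Submonoid.powers f) (Localization.Away f) Q).mp hQ)
    refine (Set.disjoint_left.mp this.2 (Submonoid.mem_powers f)) (h _ this.1 ?_)
    intro hb
    refine hQ0 ?_
    rw [← IsLocalization.map_under (Submonoid.powers f) (Localization.Away f) Q]
    rw [hb, Ideal.map_bot]

theorem tfae_goldman (B : Type u) [CommRing B] [IsDomain B] :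
    [∃ f : B, f ≠ 0 ∧ IsField (Localization.Away f),
      Algebra.FiniteType B (FractionRing B),
      ∃ (K : Type u) (_ : Field K) (_ : Algebra B K), Function.Injective (algebraMap B K) ∧ Algebra.FiniteType B K,
      IsOpen ({⟨⊥, Ideal.isPrime_bot⟩} : Set (PrimeSpectrum B))].TFAE := by
  tfae_have 1 → 2 := fun ⟨f, hf, h⟩ => finiteType_fractionRing_of_isField hf h
  tfae_have 2 → 3 := fun h => ⟨FractionRing B, inferInstance, inferInstance, IsFractionRing.injective _ _, h⟩
  tfae_have 3 → 1 := fun ⟨K, _, _, hi, _⟩ => exists_isField_away_of_finiteType hi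
  tfae_have 1 → 4 := by
    rintro ⟨f, hf, h⟩
    convert! (PrimeSpectrum.basicOpen f).isOpen
    ext P
    simp only [Set.mem_singleton_iff, SetLike.mem_coe, PrimeSpectrum.mem_basicOpen]
    constructor
    · rintro rfl; exact hf
    · intro hfP
      ext1
      by_contra h0
      exact hfP ((isField_away_iff hf).mp h P.asIdeal P.isPrime h0)
  tfae_have 4 → 1 := by
    intro h
    obtain ⟨_, ⟨f, rfl⟩, hmem, hsub⟩ :=
      PrimeSpectrum.isTopologicalBasis_basic_opens.exists_subset_of_mem_open (Set.mem_singleton _) h
    have hf : f ≠ 0 := by simpa using hmem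
    refine ⟨f, hf, (isField_away_iff hf).mpr fun P hP hP0 => ?_⟩
    by_contra hfP
    exact hP0 (congrArg PrimeSpectrum.asIdeal (Set.mem_singleton_iff.mp (hsub (a := ⟨P, hP⟩) hfP)))
  tfae_finish

variable [IsNoetherianRing B]

theorem mem_minimalPrimes_of_isField {f : B} (hf : f ≠ 0) (h : IsField (Localization.Away f))
    (P : Ideal B) [P.IsPrime] (hP : P ≠ ⊥) : P ∈ (Ideal.span {f}).minimalPrimes := by
  have hmem := (isField_away_iff hf).mp h
  by_contra hn
  have hfin := (Ideal.span {f}).finite_minimalPrimes_of_isNoetherianRing B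
  have hns : ¬ (P : Set B) ⊆ ⋃ Q ∈ hfin.toFinset, (Q : Set B) := by
    intro hs
    obtain ⟨Q, hQ, hPQ⟩ := (Ideal.subset_union_prime ⊥ ⊥ (fun Q hQ _ _ => (hfin.mem_toFinset.mp hQ).1.1)).mp hs
    have hQ' := hfin.mem_toFinset.mp hQ
    refine hn ?_
    rwa [le_antisymm hPQ (hQ'.2 ⟨inferInstance, by simpa [Ideal.span_singleton_le_iff_mem] using hmem P inferInstance hP⟩ hPQ)]
  obtain ⟨g, hgP, hg⟩ := Set.not_subset.mp hns
  obtain ⟨Q, hQ, hQP⟩ := Ideal.exists_minimalPrimes_le (I := Ideal.span {g}) (J := P) (by simpa [Ideal.span_singleton_le_iff_mem] using hgP)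
  have : Q.IsPrime := hQ.1.1
  have hg0 : g ≠ 0 := by
    rintro rfl
    have := hmem P inferInstance hP
    obtain ⟨Q0, hQ0, -⟩ := Ideal.exists_minimalPrimes_le (I := Ideal.span {f}) (J := P) (by simpa [Ideal.span_singleton_le_iff_mem] using this)
    exact hg (Set.mem_biUnion (hfin.mem_toFinset.mpr hQ0) (zero_mem _))
  have hQ0 : Q ≠ ⊥ := fun e => hg0 (by simpa [e] using hQ.1.2 (Ideal.mem_span_singleton_self g))
  obtain ⟨Q', hQ', hQ'Q⟩ := Ideal.exists_minimalPrimes_le (I := Ideal.span {f}) (J := Q) (by simpa [Ideal.span_singleton_le_iff_mem] using hmem Q inferInstance hQ0)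
  have : Q'.IsPrime := hQ'.1.1
  have hQ'0 : Q' ≠ ⊥ := fun e => hf (by simpa [e] using hQ'.1.2 (Ideal.mem_span_singleton_self f))
  have hh : Q.height ≤ 1 := Ideal.height_le_one_of_isPrincipal_of_mem_minimalPrimes _ Q hQ
  rcases hQ'Q.eq_or_lt with e | hlt
  · exact hg (Set.mem_biUnion (hfin.mem_toFinset.mpr hQ') (e ▸ hQ.1.2 (Ideal.mem_span_singleton_self g)))
  · have h1 := Ideal.height_strict_mono_of_isPrime hlt
    have h2 : (⊥ : Ideal B).height < Q'.height := Ideal.height_strict_mono_of_isPrime (bot_lt_iff_ne_bot.mpr hQ'0)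
    have : (1 : ℕ∞) < Q.height := lt_of_le_of_lt (Order.one_le_iff_pos.mpr (lt_of_le_of_lt bot_le h2)) h1
    exact (not_le.mpr this) hh

theorem tfae_goldman_noetherian (B : Type u) [CommRing B] [IsDomain B] [IsNoetherianRing B] :
    [∃ f : B, f ≠ 0 ∧ IsField (Localization.Away f),
      Finite (PrimeSpectrum B),
      Finite (MaximalSpectrum B) ∧ ringKrullDim B ≤ 1].TFAE := by
  tfae_have 1 → 3 := by
    rintro ⟨f, hf, h⟩
    have hfin := (Ideal.span {f}).finite_minimalPrimes_of_isNoetherianRing B
    constructor
    · have : ∀ m : MaximalSpectrum B, m.asIdeal ∈ ({⊥} ∪ (Ideal.span {f}).minimalPrimes : Set (Ideal B)) := by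
        intro m
        by_cases h0 : m.asIdeal = ⊥
        · exact Or.inl h0
        · have := m.isMaximal.isPrime; exact Or.inr (mem_minimalPrimes_of_isField hf h _ h0)
      have hh := this
      have := ((Set.finite_singleton ⊥).union hfin).to_subtype
      exact Finite.of_injective (fun m => (⟨m.asIdeal, hh m⟩ : ({⊥} ∪ (Ideal.span {f}).minimalPrimes : Set (Ideal B))))
        fun a b e => MaximalSpectrum.ext (congrArg Subtype.val e)
    · have : Ring.KrullDimLE 1 B := by
        rw [Ring.krullDimLE_one_iff_of_noZeroDivisors]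
        intro P hP hP'
        refine ⟨⟨hP'.ne_top, fun J hJ => by_contra fun hJt => ?_⟩⟩
        obtain ⟨M, hM, hJM⟩ := J.exists_le_maximal hJt
        have hlt := lt_of_lt_of_le hJ hJM
        have := hM.isPrime
        have h1 := mem_minimalPrimes_of_isField hf h P hP
        have h2 := mem_minimalPrimes_of_isField hf h M (ne_bot_of_gt hlt)
        exact absurd (h2.2 h1.1 hlt.le) (not_le_of_gt hlt)
      exact Ring.krullDimLE_iff.mp this
  tfae_have 3 → 2 := by
    rintro ⟨hfin, hdim⟩
    have : Ring.KrullDimLE 1 B := Ring.krullDimLE_iff.mpr hdim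
    have key : ∀ P : PrimeSpectrum B, P.asIdeal ≠ ⊥ → P.asIdeal.IsMaximal := fun P hP =>
      Ring.krullDimLE_one_iff_of_noZeroDivisors.mp this _ hP P.isPrime
    classical
    exact Finite.of_injective (fun P : PrimeSpectrum B =>
      if h : P.asIdeal = ⊥ then (none : Option (MaximalSpectrum B)) else some ⟨P.asIdeal, key P h⟩)
      fun P Q e => by
        by_cases hp : P.asIdeal = ⊥ <;> by_cases hq : Q.asIdeal = ⊥ <;> simp [hp, hq] at e
        · ext1; rw [hp, hq]
        · ext1; exact e
  tfae_have 2 → 1 := by
    intro hfin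
    classical
    have := Fintype.ofFinite (PrimeSpectrum B)
    have hc : ∀ P : PrimeSpectrum B, ∃ g : B, g ≠ 0 ∧ (P.asIdeal ≠ ⊥ → g ∈ P.asIdeal) := by
      intro P
      by_cases h0 : P.asIdeal = ⊥
      · exact ⟨1, one_ne_zero, fun h => absurd h0 h⟩
      · obtain ⟨g, hg, hg0⟩ := Submodule.exists_mem_ne_zero_of_ne_bot h0
        exact ⟨g, hg0, fun _ => hg⟩
    choose g hg0 hgP using hc
    refine ⟨∏ P, g P, Finset.prod_ne_zero_iff.mpr fun P _ => hg0 P, ?_⟩
    rw [isField_away_iff (Finset.prod_ne_zero_iff.mpr fun P _ => hg0 P)]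
    intro P hP hP0
    exact Ideal.mem_of_dvd _ (Finset.dvd_prod_of_mem g (Finset.mem_univ ⟨P, hP⟩)) (hgP ⟨P, hP⟩ hP0)
  tfae_finish

end Groth.Agent.Goldman62
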