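import Mathlib.AlgebraicGeometry.Noetherian
import Mathlib.RingTheory.Jacobson.Ring
import Mathlib.Topology.JacobsonSpace
import Mathlib.RingTheory.KrullDimension.Field
import Groth.Agent.Helper62.Goldman

universe u
open TopologicalSpace Topology AlgebraicGeometry

namespace Groth.Agent.Goldman62

theorem tfae_jacobson (A : Type u) [CommRing A] :
    [IsJacobsonRing A,
      ∀ (p : Ideal A) [p.IsPrime], ¬ p.IsMaximal → ∀ f : A ⧸ p, f ≠ 0 → ¬ IsField (Localization.Away f),
      ∀ (K : Type u) [Field K] [Algebra A K], Algebra.FiniteType A K → Module.Finite A K].TFAE := by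
  tfae_have 1 → 3 := fun _ K _ _ _ => finite_of_finite_type_of_isJacobsonRing A K
  tfae_have 3 → 1 := by
    intro h
    rw [isJacobsonRing_iff_prime_eq]
    intro P hP
    refine le_antisymm (fun g hg => by_contra fun hgP => ?_) Ideal.le_jacobson
    have hd : Disjoint (Submonoid.powers g : Set A) (P : Set A) :=
      (Ideal.disjoint_powers_iff_notMem g hP.isRadical).mpr hgP
    have h1 := IsLocalization.isPrime_of_isPrime_disjoint (Submonoid.powers g) (Localization.Away g) P hP hd
    obtain ⟨M, hM, hPM⟩ := Ideal.exists_le_maximal _ h1.ne_top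
    have hPQ : P ≤ M.under A := fun x hx => hPM (Ideal.mem_map_of_mem _ hx)
    have hgQ : g ∉ M.under A := fun hx => hM.ne_top
      (M.eq_top_of_isUnit_mem hx (IsLocalization.Away.algebraMap_isUnit g))
    let := Ideal.Quotient.field M
    have : Algebra.FiniteType A (Localization.Away g) :=
      IsLocalization.finiteType_of_monoid_fg (Submonoid.powers g) _
    have : Algebra.FiniteType A (Localization.Away g ⧸ M) :=
      Algebra.FiniteType.of_surjective (Ideal.Quotient.mkₐ A M) (Ideal.Quotient.mkₐ_surjective A M)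
    have : Module.Finite A (Localization.Away g ⧸ M) := h _ this
    have hmax : (RingHom.ker (algebraMap A (Localization.Away g ⧸ M))).IsMaximal :=
      RingHom.ker_eq_comap_bot (algebraMap A (Localization.Away g ⧸ M)) ▸
        Ideal.isMaximal_comap_of_isIntegral_of_isMaximal (R := A) (⊥ : Ideal (Localization.Away g ⧸ M))
    have hker : RingHom.ker (algebraMap A (Localization.Away g ⧸ M)) = M.under A := by
      ext x
      rw [RingHom.mem_ker, IsScalarTower.algebraMap_apply A (Localization.Away g) (Localization.Away g ⧸ M),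
        Ideal.Quotient.algebraMap_eq, Ideal.Quotient.eq_zero_iff_mem, Ideal.under_def, Ideal.mem_comap]
    rw [hker] at hmax
    exact hgQ (Ideal.mem_sInf.mp hg ⟨hPQ, hmax⟩)
  tfae_have 3 → 2 := by
    intro h p hp hmax f hf hfield
    refine hmax (Ideal.Quotient.maximal_of_isField p ?_)
    have : IsDomain (Localization.Away f) :=
      IsLocalization.isDomain_localization (powers_le_nonZeroDivisors_of_noZeroDivisors hf)
    let := hfield.toField
    have : Algebra.FiniteType (A ⧸ p) (Localization.Away f) :=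
      IsLocalization.finiteType_of_monoid_fg (Submonoid.powers f) _
    have : Algebra.FiniteType A (Localization.Away f) :=
      Algebra.FiniteType.trans (S := A ⧸ p) inferInstance this
    have := h _ this
    have : Module.Finite (A ⧸ p) (Localization.Away f) := Module.Finite.of_restrictScalars_finite A _ _
    exact isField_of_isIntegral_of_isField
      (IsLocalization.injective (Localization.Away f) (powers_le_nonZeroDivisors_of_noZeroDivisors hf)) hfield
  tfae_have 2 → 3 := by
    intro h K _ _ hK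
    let p := RingHom.ker (algebraMap A K)
    have : p.IsPrime := RingHom.ker_isPrime _
    let : Algebra (A ⧸ p) K := (RingHom.kerLift (algebraMap A K)).toAlgebra
    have : IsScalarTower A (A ⧸ p) K := IsScalarTower.of_algebraMap_eq fun x => (RingHom.kerLift_mk _ x).symm
    have : Algebra.FiniteType (A ⧸ p) K := Algebra.FiniteType.of_restrictScalars_finiteType A _ _
    obtain ⟨f, hf, hfield⟩ := exists_isField_away_of_finiteType (B := A ⧸ p) (K := K)
      (RingHom.kerLift_injective _)
    by_cases hmax : p.IsMaximal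
    · let := Ideal.Quotient.field p
      have : Module.Finite (A ⧸ p) K := finite_of_finite_type_of_isJacobsonRing _ K
      exact Module.Finite.trans (A ⧸ p) K
    · exact absurd hfield (h p hmax f hf)
  tfae_finish

theorem withBot_le_zero_of_not_one_le {d : WithBot ℕ∞} (h : ¬ 1 ≤ d) : d ≤ 0 := by
  induction d with
  | bot => exact bot_le
  | coe n =>
    have h' : ¬ (1 : ℕ∞) ≤ n := fun hh => h (WithBot.coe_le_coe.mpr hh)
    exact WithBot.coe_le_coe.mpr (le_of_eq (Order.lt_one_iff.mp (lt_of_not_ge h')))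

theorem isJacobsonRing_iff_no_semilocal (A : Type u) [CommRing A] [IsNoetherianRing A] :
    IsJacobsonRing A ↔
      ∀ (p : Ideal A) [p.IsPrime], ¬ (Finite (MaximalSpectrum (A ⧸ p)) ∧ ringKrullDim (A ⧸ p) = 1) := by
  refine Iff.trans ((tfae_jacobson A).out 0 1) ?_
  constructor
  · rintro h p hp ⟨hfin, hdim⟩
    have he : (Finite (MaximalSpectrum (A ⧸ p)) ∧ ringKrullDim (A ⧸ p) ≤ 1) ↔
        ∃ f : A ⧸ p, f ≠ 0 ∧ IsField (Localization.Away f) := (tfae_goldman_noetherian (A ⧸ p)).out 2 0
    obtain ⟨f, hf, hfield⟩ := he.mp ⟨hfin, hdim.le⟩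
    refine h p (fun hmax => ?_) f hf hfield
    let := Ideal.Quotient.field p
    rw [ringKrullDim_eq_zero_of_field] at hdim
    exact absurd hdim (by decide)
  · intro h p hp hmax f hf hfield
    have he : (Finite (MaximalSpectrum (A ⧸ p)) ∧ ringKrullDim (A ⧸ p) ≤ 1) ↔
        ∃ f : A ⧸ p, f ≠ 0 ∧ IsField (Localization.Away f) := (tfae_goldman_noetherian (A ⧸ p)).out 2 0
    obtain ⟨hfin, hdim⟩ := he.mpr ⟨f, hf, hfield⟩
    refine h p ⟨hfin, le_antisymm hdim ?_⟩
    by_contra hlt
    have : Ring.KrullDimLE 0 (A ⧸ p) := by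
      rw [Ring.krullDimLE_iff]
      exact_mod_cast withBot_le_zero_of_not_one_le hlt
    exact hmax (Ideal.Quotient.maximal_of_isField p Ring.KrullDimLE.isField_of_isDomain)

/-- If `(A/p)_f` is a field, no chain `p < p' < p''` of primes exists. -/
theorem no_chain_above {A : Type u} [CommRing A] [IsNoetherianRing A] {p : Ideal A} [p.IsPrime]
    {f : A} (hf : f ∉ p) (h : ∀ q : Ideal A, q.IsPrime → p ≤ q → f ∉ q → q = p)
    {p' p'' : Ideal A} [p'.IsPrime] [p''.IsPrime] (h1 : p < p') (h2 : p' < p'') : False := by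
  have hf' : Ideal.Quotient.mk p f ≠ 0 := by rwa [ne_eq, Ideal.Quotient.eq_zero_iff_mem]
  have hfield : IsField (Localization.Away (Ideal.Quotient.mk p f)) := by
    rw [isField_away_iff hf']
    intro P hP hP0
    by_contra hfP
    refine hP0 ?_
    have := h (P.comap (Ideal.Quotient.mk p)) inferInstance
      (fun x hx => Ideal.mem_comap.mpr (by rw [Ideal.Quotient.eq_zero_iff_mem.mpr hx]; exact zero_mem _))
      hfP
    rw [← Ideal.map_comap_of_surjective _ Ideal.Quotient.mk_surjective P, this, Ideal.map_quotient_self]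
  have hmap : ∀ q : Ideal A, q.IsPrime → p < q → (q.map (Ideal.Quotient.mk p)).IsPrime ∧
      q.map (Ideal.Quotient.mk p) ≠ ⊥ := fun q hq hpq =>
    ⟨Ideal.map_isPrime_of_surjective Ideal.Quotient.mk_surjective (by rw [Ideal.mk_ker]; exact hpq.le),
      fun e => hpq.not_ge (by simpa [Ideal.map_eq_bot_iff_le_ker, Ideal.mk_ker] using e)⟩
  obtain ⟨hq', hq'0⟩ := hmap p' inferInstance h1
  obtain ⟨hq'', hq''0⟩ := hmap p'' inferInstance (h1.trans h2)
  have m1 := mem_minimalPrimes_of_isField hf' hfield _ hq'0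
  have m2 := mem_minimalPrimes_of_isField hf' hfield _ hq''0
  have hle := m2.2 m1.1 (Ideal.map_mono h2.le)
  have := Ideal.comap_mono (f := Ideal.Quotient.mk p) hle
  rw [Ideal.comap_map_of_surjective _ Ideal.Quotient.mk_surjective,
    Ideal.comap_map_of_surjective _ Ideal.Quotient.mk_surjective, ← RingHom.ker_eq_comap_bot, Ideal.mk_ker,
    sup_eq_left.mpr h1.le, sup_eq_left.mpr (h1.le.trans h2.le)] at this
  exact h2.not_ge this

/-- A nonempty locally closed subset of a scheme has a point which is locally closed. -/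
theorem exists_isLocallyClosed_singleton {X : Scheme.{u}} {Z : Set X} (hZ : IsLocallyClosed Z)
    (hne : Z.Nonempty) : ∃ y ∈ Z, IsLocallyClosed ({y} : Set X) := by
  obtain ⟨U, F, hU, hF, rfl⟩ := hZ
  obtain ⟨z, hzU, hzF⟩ := hne
  obtain ⟨_, ⟨W, hW, rfl⟩, hzW, hWU⟩ :=
    X.isBasis_affineOpens.exists_subset_of_mem_open hzU hU
  have hc : IsCompact ((W : Set X) ∩ F) := hW.isCompact.inter_right hF
  have : CompactSpace ↥((W : Set X) ∩ F) := isCompact_iff_compactSpace.mp hc
  have : Nonempty ↥((W : Set X) ∩ F) := ⟨⟨z, hzW, hzF⟩⟩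
  obtain ⟨S, hS⟩ := IsClosed.exists_closed_singleton (S := (Set.univ : Set ↥((W : Set X) ∩ F)))
    isClosed_univ Set.univ_nonempty
  refine ⟨S.1, ⟨hWU S.2.1, S.2.2⟩, ?_⟩
  have h2 := hS.2.isLocallyClosed.image Topology.IsInducing.subtypeVal
    (by rw [Subtype.range_val]; exact W.isOpen.isLocallyClosed.inter hF.isLocallyClosed)
  simpa using h2

theorem jacobsonSpace_compl (X : Scheme.{u}) [IsLocallyNoetherian X] (Y : Set X)
    (hY : IsClosed Y) (hmeet : ∀ Z : Set X, IsClosed Z → Z.Nonempty → (Z ∩ Y).Nonempty) :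
    JacobsonSpace ↥(Yᶜ) := by
  rw [jacobsonSpace_iff_locallyClosed]
  intro Z hne hZ
  have hZ' : IsLocallyClosed (Subtype.val '' Z : Set X) :=
    hZ.image Topology.IsInducing.subtypeVal (by rw [Subtype.range_val]; exact hY.isOpen_compl.isLocallyClosed)
  obtain ⟨y, hyZ, hy⟩ := exists_isLocallyClosed_singleton hZ' (hne.image _)
  obtain ⟨y', hy'Z, rfl⟩ := hyZ
  refine ⟨y', hy'Z, ?_⟩
  show IsClosed ({y'} : Set ↥(Yᶜ))
  have key : ∀ w : X, y'.1 ⤳ w → w ∉ Y → w = y'.1 := by
    intro w hw hwY
    by_contra hne'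
    obtain ⟨v, hv, hvY⟩ := hmeet _ (isClosed_closure (s := {w})) ⟨w, subset_closure rfl⟩
    have hwv : w ⤳ v := specializes_iff_mem_closure.mpr hv
    obtain ⟨_, ⟨V, hV, rfl⟩, hvV, -⟩ :=
      X.isBasis_affineOpens.exists_subset_of_mem_open (Set.mem_univ v) isOpen_univ
    have hwV : w ∈ V := hwv.mem_open V.isOpen hvV
    have hyV : y'.1 ∈ V := (hw.trans hwv).mem_open V.isOpen hvV
    replace hV : IsAffineOpen V := hV
    have : IsNoetherianRing Γ(X, V) := IsLocallyNoetherian.component_noetherian ⟨V, hV⟩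
    have := hV.isOpenImmersion_fromSpec
    have hspec : ∀ a b : PrimeSpectrum Γ(X, V),
        (hV.fromSpec a ⤳ hV.fromSpec b) ↔ a.asIdeal ≤ b.asIdeal := fun a b =>
      hV.fromSpec.isOpenEmbedding.isInducing.specializes_iff.trans (PrimeSpectrum.le_iff_specializes a b).symm
    have hle : ∀ a b : V, a.1 ⤳ b.1 ↔ (hV.primeIdealOf a).asIdeal ≤ (hV.primeIdealOf b).asIdeal := by
      intro a b
      rw [← hV.fromSpec_primeIdealOf a, ← hV.fromSpec_primeIdealOf b]
      exact hspec _ _
    have hinj : ∀ a b : V, (hV.primeIdealOf a).asIdeal = (hV.primeIdealOf b).asIdeal → a = b := by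
      intro a b e
      have := congrArg hV.fromSpec (PrimeSpectrum.ext e)
      simp only [hV.fromSpec_primeIdealOf] at this
      exact Subtype.ext this
    obtain ⟨O, C, hO, hC, hOC⟩ := hy
    have hyO : y'.1 ∈ O ∩ C := hOC ▸ rfl
    have hO' : IsOpen (hV.fromSpec ⁻¹' O) := hO.preimage hV.fromSpec.continuous
    obtain ⟨_, ⟨g, rfl⟩, hgmem, hgsub⟩ :=
      PrimeSpectrum.isTopologicalBasis_basic_opens.exists_subset_of_mem_open
        (show hV.primeIdealOf ⟨y'.1, hyV⟩ ∈ hV.fromSpec ⁻¹' O by
          show hV.fromSpec (hV.primeIdealOf ⟨y'.1, hyV⟩) ∈ O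
          rw [hV.fromSpec_primeIdealOf]; exact hyO.1) hO'
    have : (hV.primeIdealOf ⟨y'.1, hyV⟩).asIdeal.IsPrime := (hV.primeIdealOf ⟨y'.1, hyV⟩).2
    have : (hV.primeIdealOf ⟨w, hwV⟩).asIdeal.IsPrime := (hV.primeIdealOf ⟨w, hwV⟩).2
    have : (hV.primeIdealOf ⟨v, hvV⟩).asIdeal.IsPrime := (hV.primeIdealOf ⟨v, hvV⟩).2
    refine no_chain_above (p := (hV.primeIdealOf ⟨y'.1, hyV⟩).asIdeal) (f := g) hgmem ?_
      (p' := (hV.primeIdealOf ⟨w, hwV⟩).asIdeal) (p'' := (hV.primeIdealOf ⟨v, hvV⟩).asIdeal)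
      (lt_of_le_of_ne ((hle ⟨_, hyV⟩ ⟨_, hwV⟩).mp hw) fun e => hne' (congrArg Subtype.val (hinj _ _ e)).symm)
      (lt_of_le_of_ne ((hle ⟨_, hwV⟩ ⟨_, hvV⟩).mp hwv) fun e => hwY (by have h' : w = v := congrArg Subtype.val (hinj _ _ e); rw [h']; exact hvY))
    intro q hq hle' hgq
    have hsp : y'.1 ⤳ hV.fromSpec ⟨q, hq⟩ := by
      rw [← hV.fromSpec_primeIdealOf ⟨y'.1, hyV⟩]
      exact (hspec _ ⟨q, hq⟩).mpr hle'
    have hmem : hV.fromSpec ⟨q, hq⟩ ∈ O ∩ C :=
      ⟨hgsub (a := (⟨q, hq⟩ : PrimeSpectrum _)) hgq, hsp.mem_closed hC hyO.2⟩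
    rw [← hOC, Set.mem_singleton_iff] at hmem
    have := hV.fromSpec.isOpenEmbedding.injective (hmem.trans (hV.fromSpec_primeIdealOf ⟨y'.1, hyV⟩).symm)
    exact congrArg PrimeSpectrum.asIdeal this
  rw [← closure_subset_iff_isClosed]
  intro w hw
  have : y'.1 ⤳ w.1 := (specializes_iff_mem_closure.mpr hw).map continuous_subtype_val
  exact Subtype.ext (key w.1 this w.2)

theorem jacobson_punctured (A : Type u) [CommRing A] [IsNoetherianRing A] [IsLocalRing A] :
    JacobsonSpace ↥({IsLocalRing.closedPoint A}ᶜ : Set (PrimeSpectrum A)) ∧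
      ∀ p : ↥({IsLocalRing.closedPoint A}ᶜ : Set (PrimeSpectrum A)),
        IsClosed ({p} : Set ↥({IsLocalRing.closedPoint A}ᶜ : Set (PrimeSpectrum A))) ↔
          ringKrullDim (A ⧸ p.1.asIdeal) = 1 := by
  constructor
  · have := jacobsonSpace_compl (Spec (.of A)) ({IsLocalRing.closedPoint A} : Set (PrimeSpectrum A))
      ((PrimeSpectrum.isClosed_singleton_iff_isMaximal _).mpr (IsLocalRing.maximalIdeal.isMaximal A))
      (fun Z hZ ⟨z, hz⟩ => ⟨_, (IsLocalRing.specializes_closedPoint (R := A) z).mem_closed hZ hz, rfl⟩)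
    exact this
  intro p
  have hpne : p.1.asIdeal ≠ IsLocalRing.maximalIdeal A := fun e => p.2 (PrimeSpectrum.ext e)
  have := p.1.2
  rw [← closure_subset_iff_isClosed]
  constructor
  · intro hcl
    apply le_antisymm
    · have : Ring.KrullDimLE 1 (A ⧸ p.1.asIdeal) := by
        rw [Ring.krullDimLE_one_iff_of_noZeroDivisors]
        intro I hI hIp
        have hle : p.1.asIdeal ≤ I.comap (Ideal.Quotient.mk p.1.asIdeal) := fun x hx =>
          Ideal.mem_comap.mpr (by rw [Ideal.Quotient.eq_zero_iff_mem.mpr hx]; exact zero_mem _)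
        have heq : I.comap (Ideal.Quotient.mk p.1.asIdeal) = IsLocalRing.maximalIdeal A := by
          by_contra hne
          let q : ↥({IsLocalRing.closedPoint A}ᶜ : Set (PrimeSpectrum A)) :=
            ⟨⟨I.comap (Ideal.Quotient.mk p.1.asIdeal), inferInstance⟩, fun e => hne (congrArg PrimeSpectrum.asIdeal e)⟩
          have hsp : p ⤳ q := Topology.IsInducing.subtypeVal.specializes_iff.mp
            ((PrimeSpectrum.le_iff_specializes p.1 q.1).mp hle)
          have := hcl hsp.mem_closure
          have := congrArg (fun z => z.1.asIdeal) (Set.mem_singleton_iff.mp this)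
          apply hI
          rw [← Ideal.map_comap_of_surjective _ Ideal.Quotient.mk_surjective I]
          simp only [q] at this
          rw [this, Ideal.map_quotient_self]
        rw [← Ideal.map_comap_of_surjective _ Ideal.Quotient.mk_surjective I]
        refine (Ideal.map_eq_top_or_isMaximal_of_surjective _ Ideal.Quotient.mk_surjective
          (heq ▸ IsLocalRing.maximalIdeal.isMaximal A)).resolve_left ?_
        rw [Ideal.map_comap_of_surjective _ Ideal.Quotient.mk_surjective I]
        exact hIp.ne_top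
      exact Ring.krullDimLE_iff.mp this
    · by_contra hlt
      have : Ring.KrullDimLE 0 (A ⧸ p.1.asIdeal) := by
        rw [Ring.krullDimLE_iff]
        exact_mod_cast withBot_le_zero_of_not_one_le hlt
      exact hpne (IsLocalRing.eq_maximalIdeal
        (Ideal.Quotient.maximal_of_isField _ Ring.KrullDimLE.isField_of_isDomain))
  · intro hdim q hq
    have hsp : p.1 ⤳ q.1 := (specializes_iff_mem_closure.mpr hq).map continuous_subtype_val
    have hle := (PrimeSpectrum.le_iff_specializes p.1 q.1).mpr hsp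
    rw [Set.mem_singleton_iff]
    by_contra hne
    have hk : Ring.KrullDimLE 1 (A ⧸ p.1.asIdeal) := Ring.krullDimLE_iff.mpr hdim.le
    have := q.1.2
    have hne' : q.1.asIdeal.map (Ideal.Quotient.mk p.1.asIdeal) ≠ ⊥ := fun e => hne
      (Subtype.ext (PrimeSpectrum.ext (le_antisymm
        (by simpa [Ideal.map_eq_bot_iff_le_ker, Ideal.mk_ker] using e) hle)))
    have hmax := Ring.krullDimLE_one_iff_of_noZeroDivisors.mp hk _ hne'
      (Ideal.map_isPrime_of_surjective Ideal.Quotient.mk_surjective (by rw [Ideal.mk_ker]; exact hle))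
    have := Ideal.comap_isMaximal_of_surjective (Ideal.Quotient.mk p.1.asIdeal) Ideal.Quotient.mk_surjective (K := q.1.asIdeal.map (Ideal.Quotient.mk p.1.asIdeal))
    rw [Ideal.comap_map_of_surjective _ Ideal.Quotient.mk_surjective, ← RingHom.ker_eq_comap_bot, Ideal.mk_ker,
      sup_eq_left.mpr hle] at this
    exact q.2 (PrimeSpectrum.ext (IsLocalRing.eq_maximalIdeal this))

end Groth.Agent.Goldman62
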