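import Mathlib.AlgebraicGeometry.AffineSpace
import Mathlib.AlgebraicGeometry.Morphisms.Flat
import Mathlib.AlgebraicGeometry.Properties
import Groth.Agent.SGA3a.SchemDense

set_option autoImplicit false
universe u
open CategoryTheory CategoryTheory.Limits AlgebraicGeometry TopologicalSpace Opposite

namespace Groth.Agent.SchDom62

/-- Schematically dominant family. -/
def SchDom {X : Scheme.{u}} {ι : Type*} {Z : ι → Scheme.{u}} (f : ∀ i, Z i ⟶ X) : Prop :=
  ∀ (V : X.Opens) (t : Γ(X, V)), (∀ i, (f i).app V t = 0) → t = 0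

variable {X : Scheme.{u}} {ι : Type u} {Z : ι → Scheme.{u}} (f : ∀ i, Z i ⟶ X)

theorem dense_of_schDom (h : SchDom f) : Dense (⋃ i, Set.range (f i)) := by
  rw [dense_iff_inter_open]
  intro V hV hne
  by_contra hn
  have hsub : Subsingleton Γ(X, (⟨V, hV⟩ : X.Opens)) := by
    refine subsingleton_of_zero_eq_one (Eq.symm (h ⟨V, hV⟩ 1 fun i => ?_))
    have hb : (f i) ⁻¹ᵁ (⟨V, hV⟩ : X.Opens) = ⊥ := by
      ext z
      exact ⟨fun hz => (hn ⟨f i z, hz, Set.mem_iUnion.mpr ⟨i, z, rfl⟩⟩).elim, fun hz => hz.elim⟩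
    have : Subsingleton Γ(Z i, (f i) ⁻¹ᵁ (⟨V, hV⟩ : X.Opens)) := by
      rw [hb]
      infer_instance
    exact Subsingleton.elim _ _
  obtain ⟨x, hx⟩ := hne
  have h01 : (1 : X.presheaf.stalk x) = 0 := by
    rw [← map_one (X.presheaf.germ ⟨V, hV⟩ x hx).hom, Subsingleton.elim (1 : Γ(X, ⟨V, hV⟩)) 0, map_zero]
  exact one_ne_zero h01

theorem schDom_of_dense [IsReduced X] (hd : Dense (⋃ i, Set.range (f i))) : SchDom f := by
  intro V t ht
  rw [← basicOpen_eq_bot_iff]
  by_contra hb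
  rw [← Ne, TopologicalSpace.Opens.ne_bot_iff_nonempty] at hb
  · obtain ⟨x, hx, hx'⟩ := hd.inter_open_nonempty _ (X.basicOpen t).isOpen hb
    obtain ⟨i, z, rfl⟩ := Set.mem_iUnion.mp hx'
    have hz : z ∈ (f i) ⁻¹ᵁ X.basicOpen t := hx
    rw [Scheme.Hom.preimage_basicOpen, ht i, Scheme.basicOpen_zero] at hz
    exact hz

theorem schDom_of_faithfullyFlat {X' : Scheme.{u}} (g : X' ⟶ X) [Flat g] [Surjective g]
    (h : SchDom fun i => pullback.snd (f i) g) : SchDom f := by
  intro V t ht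
  have h1 : g.app V t = 0 := by
    refine h _ _ fun i => ?_
    have h2 : ∀ (φ : pullback (f i) g ⟶ X), φ = pullback.fst (f i) g ≫ f i → φ.app V t = 0 := by
      rintro φ rfl
      show ((pullback.fst (f i) g).app ((f i) ⁻¹ᵁ V)).hom ((f i).app V t) = 0
      rw [ht i, map_zero]
    exact h2 (pullback.snd (f i) g ≫ g) pullback.condition.symm
  apply TopCat.Presheaf.section_ext X.sheaf V
  intro x hx
  obtain ⟨x', rfl⟩ := ‹Surjective g›.surj x
  have hff : (g.stalkMap x').hom.FaithfullyFlat := by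
    algebraize [(g.stalkMap x').hom]
    exact @Module.FaithfullyFlat.of_flat_of_isLocalHom _ _ _ _ _ _ _
      (Flat.stalkMap g x') (g.toLRSHom.prop x')
  apply hff.injective
  show (g.stalkMap x').hom (X.presheaf.germ V (g x') hx t) = (g.stalkMap x').hom (X.presheaf.germ V (g x') hx 0)
  rw [map_zero, map_zero]
  show (g.stalkMap x') (X.presheaf.germ V (g x') hx t) = 0
  rw [Scheme.Hom.germ_stalkMap_apply, h1, map_zero]

/-- Closed subschemes through which all members factor are everything. -/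
def ClosedMinimal : Prop :=
  ∀ (U : X.Opens) (Y : Scheme.{u}) (j : Y ⟶ (U : Scheme.{u})), IsClosedImmersion j →
    (∀ i, ∃ g : ((f i) ⁻¹ᵁ U : Scheme.{u}) ⟶ Y, g ≫ j = (f i) ∣_ U) → IsIso j

theorem closedMinimal_of_schDom (h : SchDom f) : ClosedMinimal f := by
  intro U Y j _ hfac
  rw [IsClosedImmersion.isIso_iff_ker_eq_bot]
  refine eq_bot_iff.2 fun W r hr => ?_
  rw [Scheme.Hom.ker_apply, RingHom.mem_ker] at hr
  simp only [Scheme.IdealSheafData.ideal_bot, Pi.bot_apply, Submodule.mem_bot]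
  refine h (U.ι ''ᵁ W.1) r fun i => ?_
  obtain ⟨g, hg⟩ := hfac i
  have h1 : ((f i) ∣_ U).app W.1 r = 0 := by
    have h2 : ∀ (φ : ((f i) ⁻¹ᵁ U : Scheme.{u}) ⟶ U), φ = g ≫ j → φ.app W.1 r = 0 := by
      rintro φ rfl
      show (g.app _).hom ((j.app W.1).hom r) = 0
      rw [hr, map_zero]
    exact h2 _ hg.symm
  rw [morphismRestrict_app] at h1
  apply (ConcreteCategory.bijective_of_isIso
    ((Z i).presheaf.map (eqToHom (image_morphismRestrict_preimage (f i) U W.1)).op)).1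
  exact h1.trans (map_zero _).symm

/-- Families are jointly epimorphic into separated schemes. -/
def SepEpi {S : Scheme.{u}} (p : X ⟶ S) : Prop :=
  ∀ (X' : Scheme.{u}) (q : X' ⟶ S), IsSeparated q → ∀ (U : X.Opens) (u v : (U : Scheme.{u}) ⟶ X'),
    u ≫ q = U.ι ≫ p → v ≫ q = U.ι ≫ p → (∀ i, ((f i) ∣_ U) ≫ u = ((f i) ∣_ U) ≫ v) → u = v

theorem sepEpi_of_closedMinimal (h : ClosedMinimal f) {S : Scheme.{u}} (p : X ⟶ S) : SepEpi f p := by
  intro X' q hq U u v hu hv huv
  obtain ⟨E, e, -, he, heq, hlift⟩ := SGA3a.exists_equalizer q u v (hu.trans hv.symm)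
  have := he hq
  have : IsIso e := h U E e inferInstance fun i => hlift _ (huv i)
  rwa [← cancel_epi e]

theorem schDom_of_sepEpi {S : Scheme.{u}} (p : X ⟶ S) (h : SepEpi f p) : SchDom f := by
  intro V t ht
  let t' : Γ((V : Scheme.{u}), ⊤) := V.topIso.inv t
  let a : (V : Scheme.{u}) ⟶ 𝔸(PUnit.{u+1}; S) := AffineSpace.homOfVector (V.ι ≫ p) fun _ => t'
  let b : (V : Scheme.{u}) ⟶ 𝔸(PUnit.{u+1}; S) := AffineSpace.homOfVector (V.ι ≫ p) fun _ => 0
  have hab : a = b := by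
    refine h _ (𝔸(PUnit.{u+1}; S) ↘ S) inferInstance V a b (AffineSpace.homOfVector_over _ _)
      (AffineSpace.homOfVector_over _ _) fun i => ?_
    simp only [a, b, AffineSpace.comp_homOfVector]
    congr 1
    funext _
    show ((f i) ∣_ V).appTop t' = ((f i) ∣_ V).appTop 0
    rw [map_zero, morphismRestrict_appTop]
    show ((Z i).presheaf.map _).hom (((f i).app (V.ι ''ᵁ ⊤)).hom t') = 0
    have h2 : ((f i).app (V.ι ''ᵁ ⊤)).hom t' = 0 := by
      show (X.presheaf.map (eqToHom V.ι_image_top).op ≫ (f i).app (V.ι ''ᵁ ⊤)) t = 0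
      rw [(f i).naturality]
      show ((Z i).presheaf.map _).hom ((f i).app V t) = 0
      rw [ht i, map_zero]
    rw [h2, map_zero]
  have h3 : t' = 0 := by
    have h4 := congrArg (fun φ : (V : Scheme.{u}) ⟶ 𝔸(PUnit.{u+1}; S) => φ.appTop (AffineSpace.coord S PUnit.unit)) hab
    simpa [a, b, AffineSpace.homOfVector_appTop_coord] using h4
  exact (ConcreteCategory.bijective_of_isIso V.topIso.inv).1 (h3.trans (map_zero _).symm)

theorem tfae {S : Scheme.{u}} (p : X ⟶ S) : [SchDom f, ClosedMinimal f, SepEpi f p].TFAE := by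
  tfae_have 1 → 2 := closedMinimal_of_schDom f
  tfae_have 2 → 3 := fun h => sepEpi_of_closedMinimal f h p
  tfae_have 3 → 1 := schDom_of_sepEpi f p
  tfae_finish

end Groth.Agent.SchDom62
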